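import Cfsg.Agent.H55.CoOneBd

/-!
# `Co1`: elements of prime order `r ≠ 2, 5` commuting with a group of order 25 are in the class 3A (helper316, after
helper55's tables)
-/

set_option autoImplicit false
set_option maxRecDepth 100000

namespace Cfsg.Agent.H316.VZ.CoOneCent

open Cfsg Subgroup Module
open Cfsg.Agent.LThreeMB (fr XX Zx)
open Cfsg.Agent.H55.CoOneLow Cfsg.Agent.H55.CoOneBd
open Cfsg.Spor (Co1)

theorem six {s : Co1} (hs : orderOf s = 3) (h : fr s = 2 ^ 6) : ¬ 25 ∣ Nat.card ↥(centralizer ({s} : Set Co1)) := by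
  obtain ⟨g, hg⟩ := LThreeCo1.Ranks.conj_rep LThreeCo1.Ranks.uniq6 hs h
  rw [card_cent_conj (isConj_iff.2 ⟨g, hg⟩)]
  intro hd
  have h1 : 25 ∣ 2 ^ 22 * 688905 := hd.trans ((card_cent_dvd (n := 3) (by decide) (by
    rw [← LThreeCo1.Class.order_c6, pow_orderOf_eq_one])).trans
      (six_dvd LThreeCo1.Class.order_c6 LThreeCo1Six.Data.dx LThreeCo1Six.Data.reg))
  norm_num at h1

theorem eight {s : Co1} (hs : orderOf s = 3) (h : fr s = 2 ^ 8) : ¬ 25 ∣ Nat.card ↥(centralizer ({s} : Set Co1)) := by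
  obtain ⟨t, ht, hft, ⟨e⟩, -⟩ := LThreeMB.CEight.nine
  obtain ⟨g, hg⟩ := LThreeCo1.Ranks.eight s t hs ht h hft
  have h9 := LThreeCo1Twelve.Elim.card_alt 9 (by norm_num)
  have h9' : Nat.card ↥(alternatingGroup (Fin 9)) = 181440 := by
    have : (9 : ℕ).factorial = 362880 := by decide
    omega
  rw [card_cent_conj (isConj_iff.2 ⟨g, hg⟩), card_cent_XX, ht, Nat.card_congr e.toEquiv, h9']
  norm_num

theorem twelve {s : Co1} (hs : orderOf s = 3) (h : fr s = 2 ^ 12) : ¬ 25 ∣ Nat.card ↥(centralizer ({s} : Set Co1)) := by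
  obtain ⟨t, ht, hft, hct, -⟩ := LThreeMB.CoOneFin.coOne.psu
  obtain ⟨g, hg⟩ := LThreeCo1.Ranks.twelve s t hs ht h hft
  obtain ⟨E, M, iE, iM, K, iK, iK', hEM, hE, hM, hK, ⟨e⟩⟩ := hct.chain
  have h1 : Nat.card ↥M = Nat.card (↥M ⧸ E.subgroupOf M) * Nat.card ↥(E.subgroupOf M) :=
    Subgroup.card_eq_card_quotient_mul_card_subgroup _
  rw [Nat.card_congr e.toEquiv, LThreeB.card_psu hK,
    Nat.card_congr (Subgroup.subgroupOfEquivOfLe hEM).toEquiv, hE] at h1
  have h2 := M.card_mul_index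
  rw [h1, hM] at h2
  rw [card_cent_conj (isConj_iff.2 ⟨g, hg⟩), card_cent_XX, ht, ← h2]
  norm_num

/-- **`25 ∤ |C(s)|`.** -/
theorem main {s : Co1} (hr : (orderOf s).Prime) (h2 : orderOf s ≠ 2) (h5 : orderOf s ≠ 5)
    (h3 : orderOf s = 3 → fr s ≠ 1) : ¬ 25 ∣ Nat.card ↥(centralizer ({s} : Set Co1)) := by
  have h1 : orderOf s ∣ 4157776806543360000 := card_co1 ▸ orderOf_dvd_natCard s
  have h2' : (4157776806543360000 : ℕ) = 2 ^ 21 * (3 ^ 9 * (5 ^ 4 * (7 ^ 2 * (11 * (13 * 23))))) := by norm_num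
  rw [h2'] at h1
  have key : ∀ {q n : ℕ}, q.Prime → orderOf s ∣ q ^ n → orderOf s = q := fun hq h =>
    (Nat.prime_dvd_prime_iff_eq hr hq).1 (hr.dvd_of_dvd_pow h)
  rcases (hr.dvd_mul).1 h1 with h | h
  · exact absurd (key (by norm_num) h) h2
  rcases (hr.dvd_mul).1 h with h | h
  · have hs := key (by norm_num) h
    rcases LThreeCo1.Ranks.ranks s hs with h4 | h4 | h4 | h4
    · exact absurd h4 (h3 hs)
    · exact six hs h4
    · exact eight hs h4
    · exact twelve hs h4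
  rcases (hr.dvd_mul).1 h with h | h
  · exact absurd (key (by norm_num) h) h5
  rcases (hr.dvd_mul).1 h with h | h
  · have hs := key (by norm_num) h
    rcases CpAutMSeven.RanksH.main hs with h4 | ⟨h4, -⟩
    · obtain ⟨a, rfl, ha, hao⟩ := exists_lift (by norm_num) (by norm_num) hs
      intro hd
      have h6 : 25 ∣ 2 ^ 22 * 2205 := (hd.trans (card_cent_dvd (by decide) ha)).trans
        ((H813.CoSevenCard.card_dvd hao (LThreeBX.NoSeven.free_of_fr h4)).trans (by norm_num))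
      norm_num at h6
    · have h0 : orderOf CpAutMSeven.RanksH.s0 = 7 := by
        obtain ⟨g, hg⟩ := isConj_iff.1 h4
        rw [← hs, ← hg]
        exact MulEquiv.orderOf_eq (MulAut.conj g) s
      rw [card_cent_conj h4, card_cent_XX, h0, H820.SevenL32.card_XX]
      norm_num
  rcases (hr.dvd_mul).1 h with h | h
  · have hs := (Nat.prime_dvd_prime_iff_eq hr (by norm_num)).1 h
    obtain ⟨g, hg⟩ := H800.ME.CoFacts.conj_s hs
    rw [← card_cent_conj (isConj_iff.2 ⟨g, hg⟩), H800.ME.CoFacts.card_cent]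
    norm_num
  rcases (hr.dvd_mul).1 h with h | h
  · have hs := (Nat.prime_dvd_prime_iff_eq hr (by norm_num)).1 h
    obtain ⟨a, rfl, ha, hao⟩ := exists_lift (by norm_num) (by norm_num) hs
    intro hd
    exact BpSpor.MBigCo.not_dvd_thirteen hao Nat.prime_five (by norm_num) (by norm_num)
      ((show 5 ∣ 25 by norm_num).trans (hd.trans (card_cent_dvd (by decide) ha)))
  · have hs := (Nat.prime_dvd_prime_iff_eq hr (by norm_num)).1 h
    obtain ⟨a, ha', ha, hao⟩ := exists_lift (by norm_num) (by norm_num) hs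
    intro hd
    have h6 := H604.Cop.Conway.card_cent_co0 hao
    have h7 := Nat.le_of_dvd Nat.card_pos (card_cent_dvd (by decide) ha)
    rw [ha'] at h7
    have h8 : 23 ∣ Nat.card ↥(centralizer ({s} : Set Co1)) := by
      have h9 : s ∈ centralizer ({s} : Set Co1) := mem_centralizer_singleton_iff.2 rfl
      rw [← hs, ← Subgroup.orderOf_mk s h9]
      exact orderOf_dvd_natCard _
    have h10 := Nat.Coprime.mul_dvd_of_dvd_of_dvd (by norm_num : Nat.Coprime 25 23) hd h8
    have h11 := Nat.le_of_dvd Nat.card_pos h10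
    omega

end Cfsg.Agent.H316.VZ.CoOneCent
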