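import Cfsg.Agent.H316.VZ.NN
import Cfsg.Agent.H104.EB.COne
import Cfsg.Agent.H7.NBp
import Cfsg.Agent.H620.PNorm

/-!
# Zeros at `p`-elements whose centralizer has one `p`-block (helper316)

`K` a finite group with more than one `p`-block (`H7.NBp.NB p K`; S5003 for simple `K`, `p` odd), `z` an element of
`p`-power order.  If `C_K(z)` has only one `p`-block, then every character outside the principal block vanishes at
all images of `z` under automorphisms (Brauer's second and third main theorems).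

* `vz_of_oneB` : the criterion;
* `vz_of_constrained` : `R ≤ K` a `p`-subgroup, `z ∈ R`, `R` normalised by `C_K(z)`, `C_K(R) ≤ R`
  (more generally `C_K(z) ∩ C_K(R) ≤ R`, `R ≤ C_K(z)`);
* `exists_not_mem_of_NZ`, `nb_of_NZ` : more than one block from a non-nilpotent class sum of a class whose length is
  divisible by `p`;
* `vPow_of_constrained`, `vOrdP_of_constrained`.
-/

set_option autoImplicit false

namespace Cfsg.Agent.H316.VZ

open Cfsg Subgroup Cfsg.Agent.Blocks.Basic Cfsg.Agent.Blocks.Local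

universe u

variable {K : Type u} [Group K]

/-- Some irreducible character lies outside the principal block for `M`. -/
def NBM (M : Ideal AlgInt) (G : Type*) [Group G] : Prop := ∃ χ : IrrCharacter G, χ ∉ principalBlock M G

/-- The criterion. -/
theorem vz_of_oneB [Finite K] {p : ℕ} {M : Ideal AlgInt} (hM : IsPModular p M) (hNB : NBM M K) {z : K}
    (hz : ∃ j : ℕ, orderOf z = p ^ j)
    (hC : H7.NBp.OneB M (centralizer ({z} : Set K))) : H713.VZ K z := by
  obtain ⟨χ, hχ⟩ := hNB
  refine ⟨χ, fun α => ?_⟩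
  have hmap : (centralizer ({z} : Set K)).map α.toMonoidHom = centralizer ({α z} : Set K) := by
    ext y
    rw [Subgroup.mem_map, mem_centralizer_singleton_iff]
    constructor
    · rintro ⟨c, hc, rfl⟩
      rw [mem_centralizer_singleton_iff] at hc
      show α c * α z = α z * α c
      rw [← map_mul, hc, map_mul]
    · intro hy
      refine ⟨α.symm y, ?_, by show α (α.symm y) = y; exact α.apply_symm_apply y⟩
      rw [mem_centralizer_singleton_iff]
      apply α.injective
      rw [map_mul, map_mul, MulEquiv.apply_symm_apply]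
      exact hy
  have hC' : H7.NBp.OneB M (centralizer ({α z} : Set K)) := by
    rw [← hmap]
    exact H7.NBp.OneB.iso ((centralizer ({z} : Set K)).equivMapOfInjective α.toMonoidHom α.injective) hC
  have h := H104.EB.COne.vanish hM χ hχ (α z) (by rw [MulEquiv.orderOf_eq]; exact hz) hC' 1
    (by
      show ¬ p ∣ orderOf (1 : K)
      rw [orderOf_one]
      exact fun h => hM.1.one_lt.not_ge (Nat.le_of_dvd one_pos h)) (Commute.one_right _)
  rw [mul_one] at h
  exact h

/-- `C_K(z)` is `p`-constrained. -/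
theorem vz_of_constrained [Finite K] {p : ℕ} {M : Ideal AlgInt} (hM : IsPModular p M) (hNB : NBM M K) {z : K}
    (hz : ∃ j : ℕ, orderOf z = p ^ j) {R : Subgroup K} (hR : IsPGroup p R)
    (hRC : R ≤ centralizer ({z} : Set K))
    (hn : ∀ c ∈ centralizer ({z} : Set K), ∀ r ∈ R, c * r * c⁻¹ ∈ R)
    (hc : ∀ c ∈ centralizer ({z} : Set K), (∀ r ∈ R, r * c = c * r) → c ∈ R) : H713.VZ K z := by
  refine vz_of_oneB hM hNB hz ?_
  have hN : (R.subgroupOf (centralizer ({z} : Set K))).Normal := by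
    constructor
    intro r hr c
    rw [Subgroup.mem_subgroupOf] at hr ⊢
    exact hn c c.2 _ hr
  refine H104.EB.COne.oneBlock_of_constrained hM (R.subgroupOf (centralizer ({z} : Set K)))
    (hR.comap_subtype) ?_
  intro c hcc
  rw [Subgroup.mem_subgroupOf]
  refine hc c c.2 fun r hr => ?_
  have h1 := Subgroup.mem_centralizer_iff.1 hcc ⟨r, hRC hr⟩ (by
    rw [SetLike.mem_coe, Subgroup.mem_subgroupOf]; exact hr)
  exact congrArg Subtype.val h1

/-- `z ∈ R`, `R` a `p`-subgroup normalised by `C_K(z)` with `C_K(R) ≤ R`. -/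
theorem vz_of_centric [Finite K] {p : ℕ} {M : Ideal AlgInt} (hM : IsPModular p M) (hNB : NBM M K) {z : K}
    {R : Subgroup K} (hR : IsPGroup p R) (hzR : z ∈ R)
    (hRC : R ≤ centralizer ({z} : Set K))
    (hn : ∀ c ∈ centralizer ({z} : Set K), ∀ r ∈ R, c * r * c⁻¹ ∈ R)
    (hc : centralizer (R : Set K) ≤ R) : H713.VZ K z := by
  have : Fact p.Prime := ⟨hM.1⟩
  refine vz_of_constrained hM hNB ?_ hR hRC hn fun c _ h => hc ?_
  · obtain ⟨j, hj⟩ := IsPGroup.iff_orderOf.1 hR ⟨z, hzR⟩
    exact ⟨j, by rw [← hj, Subgroup.orderOf_mk]⟩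
  · rw [Subgroup.mem_centralizer_iff]
    exact fun r hr => h r hr

/-- A non-nilpotent class sum of a class of length divisible by `p` gives a second block. -/
theorem nbm_of_NZ [Finite K] {p : ℕ} {M : Ideal AlgInt} (hM : IsPModular p M) {u : K} (h : NZ M u)
    (hp : p ∣ (centralizer ({u} : Set K)).index) : NBM M K := by
  obtain ⟨χ, hχ⟩ := h
  have := isPrime_of_isPModular hM
  refine ⟨χ, fun hmem => hχ ?_⟩
  have h1 := hmem u
  have h4 : MemLocalIdeal M (centralChar (fun _ : K => (1 : ℂ)) u) := by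
    obtain ⟨m, hm⟩ := hp
    have h2 : centralChar (fun _ : K => (1 : ℂ)) u = (((p : AlgInt) * (m : AlgInt) : AlgInt) : ℂ) := by
      rw [centralChar, hm]
      push_cast
      ring
    rw [h2]
    exact memLocalIdeal_of_mem (M.mul_mem_right _ (p_mem_of_isPModular hM))
  exact (memLocalIdeal_iff_of_sub h1).1 h4

theorem nbm_of_nb {p : ℕ} {M : Ideal AlgInt} (hM : IsPModular p M) (h : H7.NBp.NB p K) : NBM M K := h M hM

/-- Row of S4555/S4559 from `C_K(R) ≤ R`. -/
theorem vOrdP_of_centric [Finite K] {p : ℕ} [Fact p.Prime] (hNB : H7.NBp.NB p K) {z : K} (hz : orderOf z = p)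
    {R : Subgroup K} (hR : IsPGroup p R) (hzR : z ∈ R) (hRC : R ≤ centralizer ({z} : Set K))
    (hn : ∀ c ∈ centralizer ({z} : Set K), ∀ r ∈ R, c * r * c⁻¹ ∈ R)
    (hc : centralizer (R : Set K) ≤ R) : H620.PNorm.VOrdP p K := by
  obtain ⟨M, hM⟩ := exists_modular p
  exact ⟨z, hz, vz_of_centric hM (hNB M hM) hR hzR hRC hn hc⟩

theorem vOrdP_of_constrained [Finite K] {p : ℕ} [Fact p.Prime] (hNB : H7.NBp.NB p K) {z : K} (hz : orderOf z = p)
    {R : Subgroup K} (hR : IsPGroup p R) (hRC : R ≤ centralizer ({z} : Set K))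
    (hn : ∀ c ∈ centralizer ({z} : Set K), ∀ r ∈ R, c * r * c⁻¹ ∈ R)
    (hc : ∀ c ∈ centralizer ({z} : Set K), (∀ r ∈ R, r * c = c * r) → c ∈ R) : H620.PNorm.VOrdP p K := by
  obtain ⟨M, hM⟩ := exists_modular p
  exact ⟨z, hz, vz_of_constrained hM (hNB M hM) ⟨1, by rw [hz, pow_one]⟩ hR hRC hn hc⟩

/-- Row of S4555/S4559 from `F*(C_K(z)) = O_p(C_K(z))`. -/
theorem vOrdP_of_oneB [Finite K] {p : ℕ} [Fact p.Prime] (hNB : H7.NBp.NB p K) {z : K} (hz : orderOf z = p)
    (hC : ∀ M : Ideal AlgInt, IsPModular p M → H7.NBp.OneB M (centralizer ({z} : Set K))) :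
    H620.PNorm.VOrdP p K := by
  obtain ⟨M, hM⟩ := exists_modular p
  exact ⟨z, hz, vz_of_oneB hM (hNB M hM) ⟨1, by rw [hz, pow_one]⟩ (hC M hM)⟩

end Cfsg.Agent.H316.VZ
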