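import Cfsg.Agent.H316.VZ.Iso
import Cfsg.Agent.H225.AxB

/-!
# Heredity of characteristic `p` to `C(x) / ⟨x⟩` (helper316)

* `constrained_of_pprime` : `C_D(O_p(D)) ≤ O_p(D)` if no `p'`-element `≠ 1` centralizes a normal `p`-subgroup `R`;
* `heir` : `C_G(y)` of characteristic `p`, `x` of order `p` commuting with `y`, `ψ : C_G(x) → F` onto with kernel `⟨x⟩`: the
  centralizer of `ψ y` in `F` is of characteristic `p`.
-/

set_option autoImplicit false

namespace Cfsg.Agent.H316.VZ.Heir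

open Subgroup Cfsg Cfsg.Agent.Lib

universe u v

theorem constrained_of_pprime {D : Type u} [Group D] [Finite D] {p : ℕ} [hp : Fact p.Prime] {R : Subgroup D}
    [hRn : R.Normal] (hR : IsPGroup p R)
    (h : ∀ d : D, (orderOf d).Coprime p → (∀ r ∈ R, r * d = d * r) → d = 1) :
    centralizer (pCore p D : Set D) ≤ pCore p D := by
  have hn : (pCore p D).Normal := Cores.pCore_normal p
  refine Cores.le_pCore inferInstance ?_
  rintro ⟨d, hd⟩
  obtain ⟨k, m, hm, he⟩ := Nat.exists_eq_pow_mul_and_not_dvd (orderOf_pos d).ne' p hp.out.ne_one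
  refine ⟨k, Subtype.ext ?_⟩
  show d ^ p ^ k = 1
  refine h _ ?_ fun r hr => ?_
  · rw [orderOf_pow_of_dvd (pow_ne_zero _ hp.out.ne_zero) (he ▸ Dvd.intro _ rfl), he,
      Nat.mul_div_cancel_left _ (pow_pos hp.out.pos _)]
    exact ((Nat.Prime.coprime_iff_not_dvd hp.out).2 hm).symm
  · have h1 : r * d = d * r := mem_centralizer_iff.1 hd r (Cores.le_pCore hRn hR hr)
    exact ((show Commute r d from h1).pow_right (p ^ k)).eq

/-- a `p'`-element commuting with `x` and commuting with `a` modulo `⟨x⟩` commutes with `a` -/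
theorem comm_of_mod {G : Type u} [Group G] {p : ℕ} {x c a : G} (hx : orderOf x = p)
    (hc : (orderOf c).Coprime p) (hcx : c * x = x * c) (hca : c * a * c⁻¹ * a⁻¹ ∈ zpowers x) : c * a = a * c := by
  obtain ⟨i, hi⟩ := mem_zpowers_iff.1 hca
  have hcxi : Commute c (x ^ i) := (show Commute c x from hcx).zpow_right i
  have h1 : c * a * c⁻¹ = x ^ i * a := by rw [hi]; group
  have key : ∀ n : ℕ, c ^ n * a * (c ^ n)⁻¹ = (x ^ i) ^ n * a := by
    intro n
    induction n with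
    | zero => simp
    | succ n ih =>
      calc c ^ (n + 1) * a * (c ^ (n + 1))⁻¹ = c * (c ^ n * a * (c ^ n)⁻¹) * c⁻¹ := by rw [pow_succ']; group
        _ = c * (x ^ i) ^ n * a * c⁻¹ := by rw [ih]; group
        _ = (x ^ i) ^ n * (c * a * c⁻¹) := by rw [(hcxi.pow_right n).eq]; group
        _ = (x ^ i) ^ (n + 1) * a := by rw [h1, pow_succ]; group
  have h2 := key (orderOf c)
  rw [pow_orderOf_eq_one, one_mul, inv_one, mul_one] at h2
  have h3 : (x ^ i) ^ orderOf c = 1 := right_eq_mul.1 h2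
  have h4 : (x ^ i) ^ p = 1 := by
    rw [← zpow_natCast, ← zpow_mul, mul_comm, zpow_mul, zpow_natCast, ← hx, pow_orderOf_eq_one, one_zpow]
  have h5 : (x ^ i) ^ Nat.gcd (orderOf c) p = 1 := pow_gcd_eq_one.2 ⟨h3, h4⟩
  rw [hc, pow_one] at h5
  rw [h5, one_mul, mul_inv_eq_iff_eq_mul] at h1
  exact h1

variable {G : Type u} [Group G] [Finite G] {p : ℕ} [hp : Fact p.Prime]

/-- **Heredity.** -/
theorem heir {x y : G} (hx : orderOf x = p) (hxy : y * x = x * y)
    (hC : centralizer (pCore p ↥(centralizer ({y} : Set G)) : Set ↥(centralizer ({y} : Set G))) ≤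
      pCore p ↥(centralizer ({y} : Set G)))
    {F : Type v} [Group F] [Finite F] (ψ : ↥(centralizer ({x} : Set G)) →* F) (hψ : Function.Surjective ψ)
    (hψk : ∀ c : ↥(centralizer ({x} : Set G)), ψ c = 1 ↔ (c : G) ∈ zpowers x) :
    centralizer (pCore p ↥(centralizer ({ψ ⟨y, mem_centralizer_singleton_iff.2 hxy⟩} : Set F)) :
      Set ↥(centralizer ({ψ ⟨y, mem_centralizer_singleton_iff.2 hxy⟩} : Set F))) ≤
      pCore p ↥(centralizer ({ψ ⟨y, mem_centralizer_singleton_iff.2 hxy⟩} : Set F)) := by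
  set y' : ↥(centralizer ({x} : Set G)) := ⟨y, mem_centralizer_singleton_iff.2 hxy⟩ with hy'
  set E : Subgroup F := centralizer ({ψ y'} : Set F) with hE
  -- the `p`-group `V = O_p(C(y))`
  obtain ⟨V, hV⟩ : ∃ V : Subgroup G, V = (pCore p ↥(centralizer ({y} : Set G))).map
    (centralizer ({y} : Set G)).subtype := ⟨_, rfl⟩
  have hVp : IsPGroup p ↥V := by rw [hV]; exact (Cores.pCore_isPGroup p).map _
  have hVy : ∀ v ∈ V, v * y = y * v := by
    intro v hv
    rw [hV] at hv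
    obtain ⟨a, -, rfl⟩ := hv
    exact mem_centralizer_singleton_iff.1 a.2
  have hPn : (pCore p ↥(centralizer ({y} : Set G))).Normal := Cores.pCore_normal p
  have hVn : ∀ c : G, c * y = y * c → ∀ v ∈ V, c * v * c⁻¹ ∈ V := by
    intro c hc v hv
    rw [hV] at hv ⊢
    obtain ⟨a, ha, rfl⟩ := hv
    exact ⟨⟨c, mem_centralizer_singleton_iff.2 hc⟩ * a * ⟨c, mem_centralizer_singleton_iff.2 hc⟩⁻¹,
      hPn.conj_mem a ha _, rfl⟩
  have hVc : ∀ c : G, c * y = y * c → (∀ v ∈ V, v * c = c * v) → c ∈ V := by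
    intro c hc h
    rw [hV]
    refine ⟨⟨c, mem_centralizer_singleton_iff.2 hc⟩, hC (mem_centralizer_iff.2 fun a ha => Subtype.ext ?_), rfl⟩
    exact h a (by rw [hV]; exact mem_map_of_mem _ ha)
  -- `E₀ = ψ(C(x) ∩ C(y))`
  obtain ⟨E₀, hE₀⟩ : ∃ E₀ : Subgroup ↥E, E₀ = ((centralizer ({y'} : Set ↥(centralizer ({x} : Set G)))).map ψ).subgroupOf E :=
    ⟨_, rfl⟩
  have hmE₀ : ∀ e : ↥E, e ∈ E₀ ↔ ∃ c : ↥(centralizer ({x} : Set G)), (c : G) * y = y * c ∧ ψ c = e := by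
    intro e
    rw [hE₀, mem_subgroupOf, mem_map]
    constructor
    · rintro ⟨c, hc, he⟩
      exact ⟨c, congrArg Subtype.val (mem_centralizer_singleton_iff.1 hc), he⟩
    · rintro ⟨c, hc, he⟩
      exact ⟨c, mem_centralizer_singleton_iff.2 (Subtype.ext hc), he⟩
  -- elements of `C(x)` with image in `E`
  have hcy : ∀ c : ↥(centralizer ({x} : Set G)), ψ c ∈ E → (c : G) * y * (c : G)⁻¹ * y⁻¹ ∈ zpowers x := by
    intro c hc
    have h1 : ψ (c * y' * c⁻¹ * y'⁻¹) = 1 := by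
      rw [map_mul, map_mul, map_mul, map_inv, map_inv, mem_centralizer_singleton_iff.1 hc]
      group
    exact (hψk _).1 h1
  have hE₀n : E₀.Normal := by
    constructor
    intro e he g
    obtain ⟨d, hd, hde⟩ := (hmE₀ e).1 he
    obtain ⟨c, hc⟩ := hψ g
    obtain ⟨i, hi⟩ := mem_zpowers_iff.1 (hcy c (by rw [hc]; exact g.2))
    refine (hmE₀ _).2 ⟨c * d * c⁻¹, ?_, by rw [map_mul, map_mul, map_inv, hc, hde]; rfl⟩
    -- `c⁻¹ y c = y x^{-i}`
    have hxi : ∀ a : ↥(centralizer ({x} : Set G)), (a : G) * x ^ i = x ^ i * a := fun a =>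
      ((show Commute (a : G) x from mem_centralizer_singleton_iff.1 a.2).zpow_right i).eq
    have h1 : (c : G) * y * (c : G)⁻¹ = x ^ i * y := by rw [hi]; group
    have h2 : (c : G)⁻¹ * y * c = x ^ (-i) * y := by
      have h3 : y = x ^ (-i) * (c * y * (c : G)⁻¹) := by rw [h1, zpow_neg]; group
      have h4 : (c : G)⁻¹ * x ^ (-i) = x ^ (-i) * (c : G)⁻¹ := by
        have := (show Commute ((c : ↥(centralizer ({x} : Set G))) : G) x from
          mem_centralizer_singleton_iff.1 c.2).inv_left.zpow_right (-i)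
        exact this.eq
      calc (c : G)⁻¹ * y * c = (c : G)⁻¹ * (x ^ (-i) * (c * y * (c : G)⁻¹)) * c := by rw [← h3]
        _ = ((c : G)⁻¹ * x ^ (-i)) * c * y := by group
        _ = x ^ (-i) * y := by rw [h4]; group
    have hdxi : (d : G) * x ^ (-i) = x ^ (-i) * d :=
      ((show Commute (d : G) x from mem_centralizer_singleton_iff.1 d.2).zpow_right (-i)).eq
    show (c : G) * d * (c : G)⁻¹ * y = y * (c * d * (c : G)⁻¹)
    calc (c : G) * d * (c : G)⁻¹ * y = c * d * ((c : G)⁻¹ * y * c) * (c : G)⁻¹ := by group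
      _ = c * (d * x ^ (-i)) * y * (c : G)⁻¹ := by rw [h2]; group
      _ = c * x ^ (-i) * (d * y) * (c : G)⁻¹ := by rw [hdxi]; group
      _ = c * (x ^ (-i) * y) * d * (c : G)⁻¹ := by rw [hd]; group
      _ = y * (c * d * (c : G)⁻¹) := by rw [← h2]; group
  have hOn : (pCore p ↥E₀).Characteristic := Cores.pCore_characteristic p
  have hOE : (pCore p ↥E₀).map E₀.subtype ≤ pCore p ↥E :=
    Cores.le_pCore inferInstance ((Cores.pCore_isPGroup p).map _)
  -- `ψ v ∈ O_p(E)` for `v ∈ C_V(x)`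
  have hvE : ∀ v : ↥(centralizer ({x} : Set G)), (v : G) ∈ V → ∀ h : ψ v ∈ E, (⟨ψ v, h⟩ : ↥E) ∈ pCore p ↥E := by
    intro v hv hvE
    obtain ⟨V₀, hV₀⟩ : ∃ V₀ : Subgroup ↥E₀, V₀ = (((V.subgroupOf (centralizer ({x} : Set G))).map ψ).subgroupOf
      E).subgroupOf E₀ := ⟨_, rfl⟩
    have hm : ∀ e : ↥E₀, e ∈ V₀ ↔ ∃ c : ↥(centralizer ({x} : Set G)), (c : G) ∈ V ∧ ψ c = ((e : ↥E) : F) := by
      intro e
      rw [hV₀, mem_subgroupOf, mem_subgroupOf, mem_map]
      rfl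
    have hV₀n : V₀.Normal := by
      constructor
      intro e he g
      obtain ⟨a, ha, hae⟩ := (hm e).1 he
      obtain ⟨c, hc, hcg⟩ := (hmE₀ g).1 g.2
      refine (hm _).2 ⟨c * a * c⁻¹, hVn c hc a ha, ?_⟩
      rw [map_mul, map_mul, map_inv, hcg, hae]
      rfl
    have hV₀p : IsPGroup p ↥V₀ := by
      intro e
      obtain ⟨a, ha, hae⟩ := (hm e).1 e.2
      obtain ⟨k, hk⟩ := hVp ⟨a, ha⟩
      refine ⟨k, Subtype.ext (Subtype.ext (Subtype.ext ?_))⟩
      have h0 : (a : G) ^ p ^ k = 1 := congrArg (fun b : ↥V => (b : G)) hk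
      have h1 : a ^ p ^ k = 1 := Subtype.ext h0
      show (((e : ↥E₀) : ↥E) : F) ^ p ^ k = 1
      rw [← hae, ← map_pow, h1, map_one]
    have h1 : V₀ ≤ pCore p ↥E₀ := Cores.le_pCore hV₀n hV₀p
    have h2 : (⟨ψ v, hvE⟩ : ↥E) ∈ E₀ := (hmE₀ _).2 ⟨v, hVy v hv, rfl⟩
    exact hOE (mem_map_of_mem E₀.subtype (h1 ((hm ⟨⟨ψ v, hvE⟩, h2⟩).2 ⟨v, hv, rfl⟩)))
  have hOn' : (pCore p ↥E).Normal := Cores.pCore_normal p
  refine constrained_of_pprime (R := pCore p ↥E) (Cores.pCore_isPGroup p) fun d hd hdc => ?_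
  obtain ⟨c, hc⟩ := hψ d
  obtain ⟨k, m, hm, he⟩ := Nat.exists_eq_pow_mul_and_not_dvd (orderOf_pos c).ne' p hp.out.ne_one
  -- `c₁ = c ^ p ^ k`
  have ho : (orderOf (((c ^ p ^ k : ↥(centralizer ({x} : Set G)))) : G)).Coprime p := by
    rw [Subgroup.orderOf_coe, orderOf_pow_of_dvd (pow_ne_zero _ hp.out.ne_zero) (he ▸ Dvd.intro _ rfl), he,
      Nat.mul_div_cancel_left _ (pow_pos hp.out.pos _)]
    exact ((Nat.Prime.coprime_iff_not_dvd hp.out).2 hm).symm
  have hψ1 : ψ (c ^ p ^ k) = ((d ^ p ^ k : ↥E) : F) := by rw [map_pow, hc]; rfl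
  have hx1 : ((c ^ p ^ k : ↥(centralizer ({x} : Set G))) : G) * x = x * (c ^ p ^ k : ↥(centralizer ({x} : Set G))) :=
    mem_centralizer_singleton_iff.1 (c ^ p ^ k).2
  have hy1 : ((c ^ p ^ k : ↥(centralizer ({x} : Set G))) : G) * y = y * (c ^ p ^ k : ↥(centralizer ({x} : Set G))) :=
    comm_of_mod hx ho hx1 (hcy _ (by rw [hψ1]; exact (d ^ p ^ k).2))
  have hv1 : ∀ v ∈ V, v * x = x * v →
      ((c ^ p ^ k : ↥(centralizer ({x} : Set G))) : G) * v = v * (c ^ p ^ k : ↥(centralizer ({x} : Set G))) := by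
    intro v hv hvx
    refine comm_of_mod hx ho hx1 ?_
    let v' : ↥(centralizer ({x} : Set G)) := ⟨v, mem_centralizer_singleton_iff.2 hvx⟩
    have h1 : ψ v' ∈ E := by
      rw [hE, mem_centralizer_singleton_iff, ← map_mul, ← map_mul]
      congr 1
      exact Subtype.ext (hVy v hv)
    have h2 := hdc _ (hvE v' hv h1)
    have h3 : ψ v' * ψ (c ^ p ^ k) = ψ (c ^ p ^ k) * ψ v' := by
      rw [hψ1]
      have h4 := ((show Commute (⟨ψ v', h1⟩ : ↥E) d from h2).pow_right (p ^ k)).eq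
      exact congrArg Subtype.val h4
    have h4 : ψ (c ^ p ^ k * v' * (c ^ p ^ k)⁻¹ * v'⁻¹) = 1 := by
      rw [map_mul, map_mul, map_mul, map_inv, map_inv, ← h3]
      group
    exact (hψk _).1 h4
  have hcn : ∀ a : G, a * y = y * a → a ∈ normalizer (V : Set G) := by
    intro a ha
    rw [mem_normalizer_iff]
    intro v
    refine ⟨fun hv => hVn a ha v hv, fun hv => ?_⟩
    have h1 := hVn a⁻¹ (show Commute a y from ha).inv_left _ hv
    have h2 : a⁻¹ * (a * v * a⁻¹) * a⁻¹⁻¹ = v := by group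
    rwa [h2] at h1
  have hab := H225.AxB.axb (D := zpowers x) hVp (zpowers_le.2 (hcn x hxy.symm)) (fun d hd => ⟨1, by
      obtain ⟨i, rfl⟩ := mem_zpowers_iff.1 hd
      have h4 : (x ^ i) ^ p = 1 := by
        rw [← zpow_natCast, ← zpow_mul, mul_comm, zpow_mul, zpow_natCast, ← hx, pow_orderOf_eq_one, one_zpow]
      rw [pow_one, h4]
      exact one_mem _⟩)
    (y := ((c ^ p ^ k : ↥(centralizer ({x} : Set G))) : G)) (hcn _ hy1) ho (fun d hd => by
      obtain ⟨i, rfl⟩ := mem_zpowers_iff.1 hd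
      have h4 := ((show Commute ((c ^ p ^ k : ↥(centralizer ({x} : Set G))) : G) x from hx1).zpow_right i).eq
      rw [← h4]
      have h5 : ((c ^ p ^ k : ↥(centralizer ({x} : Set G))) : G) * x ^ i * (x ^ i)⁻¹ *
          ((c ^ p ^ k : ↥(centralizer ({x} : Set G))) : G)⁻¹ = 1 := by group
      rw [h5]
      exact one_mem _) (fun v hv h => hv1 v hv (h x (mem_zpowers x)).symm)
  have h6 := hVc _ hy1 (mem_centralizer_iff.1 hab)
  obtain ⟨j, hj⟩ := IsPGroup.iff_orderOf.1 hVp ⟨_, h6⟩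
  rw [Subgroup.orderOf_mk] at hj
  have h7 : ((c ^ p ^ k : ↥(centralizer ({x} : Set G))) : G) = 1 := by
    rw [← orderOf_eq_one_iff]
    rw [hj] at ho ⊢
    have h8 : (p ^ j).Coprime (p ^ j) := ho.pow_right j
    exact (Nat.coprime_self _).1 h8
  have h8 : d ^ p ^ k = 1 := by
    apply Subtype.ext
    rw [← hψ1]
    have h9 : c ^ p ^ k = 1 := Subtype.ext h7
    rw [h9, map_one]
    rfl
  have h9 : orderOf d ∣ p ^ k := orderOf_dvd_of_pow_eq_one h8
  exact orderOf_eq_one_iff.1 (Nat.Coprime.eq_one_of_dvd (hd.pow_right k) h9)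

end Cfsg.Agent.H316.VZ.Heir
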