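import Cfsg.Agent.H316.VZ.Iso
import Cfsg.Agent.BpSpor.BFiveAbs

/-!
# `O_{p'}(D) = 1` in the situation `Rad` (helper316)

`D = N C_D(z)`, `C_D(z) / ⟨x, z⟩ ≅ A` simple, `k² = z`, `u` an involution of `C_D(z)` outside of `⟨x, z⟩`.

* `bot_of_fpf` : a normal `p'`-subgroup `W ≤ N` of `D` with `C_W(u) = 1` is trivial;
* `pPrimeCore_eq_bot` : `O_{p'}(D) = 1` if all normal `p'`-subgroups `W ≤ N` are trivial.
-/

set_option autoImplicit false

namespace Cfsg.Agent.H316.VZ.RadCore

open Subgroup Cfsg Cfsg.Agent.Lib Cfsg.Agent.BpSpor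

universe u v

variable {D : Type u} [Group D] {p : ℕ} {z x : D} {N : Subgroup D} {A : Type v} [Group A]
  {f : ↥(centralizer ({z} : Set D)) →* A} [Finite D] [hp : Fact p.Prime]

omit [Finite D] in
/-- powers of `x` in a `p'`-subgroup -/
theorem zpow_eq_one (h : M5.Rad p z x N f) {W : Subgroup D} (hWp : (Nat.card ↥W).Coprime p) {i : ℤ} (hi : x ^ i ∈ W) :
    x ^ i = 1 := by
  have h1 : orderOf (x ^ i) ∣ Nat.card ↥W := by
    rw [← Subgroup.orderOf_mk _ hi]
    exact orderOf_dvd_natCard _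
  have h2 : orderOf (x ^ i) ∣ p := by
    refine orderOf_dvd_of_pow_eq_one ?_
    rw [← zpow_natCast, ← zpow_mul, mul_comm, zpow_mul, zpow_natCast, ← h.ox, pow_orderOf_eq_one, one_zpow]
  exact orderOf_eq_one_iff.1 (Nat.Coprime.eq_one_of_dvd (hWp.coprime_dvd_left h1) h2)

/-- `z` inverts `W` -/
theorem z_inv (hp2 : p ≠ 2) (h : M5.Rad p z x N f) {W : Subgroup D} [hWn : W.Normal] (hWN : W ≤ N)
    (hWp : (Nat.card ↥W).Coprime p) {w : D} (hw : w ∈ W) : z * w * z⁻¹ = w⁻¹ := by
  obtain ⟨i, hi⟩ := h.inv hp2 (hWN hw)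
  have h1 : x ^ i ∈ W := by
    have h2 : x ^ i = w * (z * w * z⁻¹) := by rw [hi]; group
    rw [h2]
    exact W.mul_mem hw (hWn.conj_mem w hw z)
  rw [hi, zpow_eq_one h hWp h1, mul_one]

/-- an element of `C_D(z)` outside of the kernel centralising `W` -/
theorem bot_of_cent [hA : IsSimpleGroup A] (hAc : ¬ Group.IsSolvable A) (hp2 : p ≠ 2) (h : M5.Rad p z x N f)
    {k : ↥(centralizer ({z} : Set D))} (hk : (k : D) * k = z) {W : Subgroup D} [hWn : W.Normal] (hWN : W ≤ N)
    (hWp : (Nat.card ↥W).Coprime p) {s : ↥(centralizer ({z} : Set D))} (hfs : f s ≠ 1)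
    (hsW : (s : D) ∈ centralizer (W : Set D)) : W = ⊥ := by
  have hns : ¬ Group.IsSolvable ↥(centralizer (W : Set D)) := fun hs => B5.not_mem_cent hAc h hs hfs hsW
  obtain ⟨c, hc, n, hn, hz⟩ := h.z_mem_sup hp2 hk (centralizer (W : Set D)) hns
  rw [eq_bot_iff]
  intro w hw
  rw [mem_bot]
  have h1 : n * w * n⁻¹ = w := by
    obtain ⟨i, hi⟩ := h.comm hp2 hn (hWN hw)
    have h2 : x ^ i ∈ W := by
      have h3 : x ^ i = w⁻¹ * (n * w * n⁻¹) := by rw [hi]; group
      rw [h3]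
      exact W.mul_mem (W.inv_mem hw) (hWn.conj_mem w hw n)
    rw [hi, zpow_eq_one h hWp h2, mul_one]
  have h3 : c * w * c⁻¹ = w := by
    rw [← mem_centralizer_iff.1 hc w hw, mul_inv_cancel_right]
  have h4 : z * w * z⁻¹ = w := by
    rw [hz]
    calc c * n * w * (c * n)⁻¹ = c * (n * w * n⁻¹) * c⁻¹ := by group
      _ = w := by rw [h1, h3]
  have h5 := h.cN w (hWN hw) (by
    rw [mul_inv_eq_iff_eq_mul] at h4
    exact h4.symm)
  obtain ⟨i, rfl⟩ := mem_zpowers_iff.1 h5
  exact zpow_eq_one h hWp hw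

/-- **`C_W(u) = 1`.** -/
theorem bot_of_fpf [hA : IsSimpleGroup A] (hAc : ¬ Group.IsSolvable A) (hp2 : p ≠ 2) (h : M5.Rad p z x N f)
    {k : ↥(centralizer ({z} : Set D))} (hk : (k : D) * k = z) {u : ↥(centralizer ({z} : Set D))}
    (huu : (u : D) * u = 1) (hfu : f u ≠ 1) {W : Subgroup D} [hWn : W.Normal] (hWN : W ≤ N)
    (hWp : (Nat.card ↥W).Coprime p) (hfree : ∀ w ∈ W, w * (u : D) = u * w → w = 1) : W = ⊥ := by
  have hzC : z ∈ centralizer ({z} : Set D) := mem_centralizer_singleton_iff.2 rfl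
  have hfz : f ⟨z, hzC⟩ = 1 := h.f_central hAc fun g => Subtype.ext (mem_centralizer_singleton_iff.1 g.2)
  refine bot_of_cent hAc hp2 h hk hWN hWp (s := u * ⟨z, hzC⟩) (by rw [map_mul, hfz, mul_one]; exact hfu) ?_
  rw [mem_centralizer_iff]
  intro w hw
  have hui : (u : D)⁻¹ = u := inv_eq_of_mul_eq_one_left huu
  have h1 : (u : D) * w * u = w⁻¹ := Inv.inv_of_fpf W huu (by
    rw [normalizer_eq_top]
    trivial) (fun c hc hcu => hfree c hc hcu.symm) hw
  have h2 := z_inv hp2 h hWN hWp hw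
  have h3 : (u : D) * w⁻¹ * u = w := by
    have h4 : ((u : D) * w * u)⁻¹ = w := by rw [h1, inv_inv]
    calc (u : D) * w⁻¹ * u = (u : D)⁻¹ * w⁻¹ * (u : D)⁻¹ := by rw [hui]
      _ = ((u : D) * w * u)⁻¹ := by group
      _ = w := h4
  have h5 : ((u : D) * z) * w * ((u : D) * z)⁻¹ = w := by
    calc ((u : D) * z) * w * ((u : D) * z)⁻¹ = (u : D) * (z * w * z⁻¹) * (u : D)⁻¹ := by group
      _ = (u : D) * w⁻¹ * u := by rw [h2, hui]
      _ = w := h3
  show w * ((u : D) * z) = ((u : D) * z) * w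
  rw [mul_inv_eq_iff_eq_mul] at h5
  exact h5.symm

/-- **`O_{p'}(D) = 1`.** -/
theorem pPrimeCore_eq_bot [hA : IsSimpleGroup A] (hAc : ¬ Group.IsSolvable A) (hp2 : p ≠ 2) (h : M5.Rad p z x N f)
    {S : Subgroup D} [hS : S.Normal] (hSN : S ≤ N) (hs : Group.IsSolvable ↥(centralizer (S : Set D)))
    (hW : ∀ W : Subgroup D, W.Normal → W ≤ N → (Nat.card ↥W).Coprime p → W = ⊥) : pPrimeCore p D = ⊥ := by
  have hN := h.nN
  have hVn : (pPrimeCore p D).Normal := Cores.pPrimeCore_normal p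
  have hVp : (Nat.card ↥(pPrimeCore p D)).Coprime p := Cores.pPrimeCore_coprime p
  set V := pPrimeCore p D with hV
  have hVN : V ⊓ N = ⊥ := hW _ inferInstance inf_le_right (hVp.coprime_dvd_left (card_dvd_of_le inf_le_left))
  have hVS : V ≤ centralizer (S : Set D) := by
    intro v hv
    rw [mem_centralizer_iff]
    intro s hs'
    have h1 : v * s * v⁻¹ * s⁻¹ ∈ V ⊓ N := by
      refine ⟨?_, N.mul_mem (hN.conj_mem s (hSN hs') v) (N.inv_mem (hSN hs'))⟩
      have h2 := V.mul_mem hv (hVn.conj_mem _ (V.inv_mem hv) s)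
      have e : v * s * v⁻¹ * s⁻¹ = v * (s * v⁻¹ * s⁻¹) := by group
      rw [e]
      exact h2
    rw [hVN, mem_bot, mul_inv_eq_one, mul_inv_eq_iff_eq_mul] at h1
    exact h1.symm
  have hVs : Group.IsSolvable ↥V := Group.isSolvable_of_isSolvable_injective (inclusion_injective hVS)
  have hNs : Group.IsSolvable ↥N := by
    have := h.isNilpotent hp2
    infer_instance
  have hVNs : Group.IsSolvable ↥(V ⊔ N) := by
    refine M5.solvable_of_mul (N := N) (E := V) hNs hVs fun y hy => ?_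
    rw [sup_comm] at hy
    obtain ⟨n, hn, v, hv, e⟩ := mem_sup_of_normal_left.1 hy
    exact ⟨n, hn, v, hv, e.symm⟩
  have hfc : ∀ c : ↥(centralizer ({z} : Set D)), (c : D) ∈ V ⊔ N → f c = 1 := by
    have h1 : (((V ⊔ N).subgroupOf (centralizer ({z} : Set D))).map f).Normal :=
      (inferInstance : ((V ⊔ N).subgroupOf (centralizer ({z} : Set D))).Normal).map f h.surj
    rcases h1.eq_bot_or_eq_top with h2 | h2
    · intro c hc
      have h3 : f c ∈ ((V ⊔ N).subgroupOf (centralizer ({z} : Set D))).map f := mem_map_of_mem f (mem_subgroupOf.2 hc)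
      rw [h2] at h3
      exact mem_bot.1 h3
    · exfalso
      apply hAc
      have h3 : Group.IsSolvable ↥((V ⊔ N).subgroupOf (centralizer ({z} : Set D))) := by
        let j : ↥((V ⊔ N).subgroupOf (centralizer ({z} : Set D))) →* ↥(V ⊔ N) :=
          ((centralizer ({z} : Set D)).subtype.comp
            ((V ⊔ N).subgroupOf (centralizer ({z} : Set D))).subtype).codRestrict _ fun a =>
              mem_subgroupOf.1 a.2
        have hj : Function.Injective j := fun a b hab =>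
          Subtype.ext (Subtype.ext (congrArg (fun y : ↥(V ⊔ N) => (y : D)) hab))
        exact Group.isSolvable_of_isSolvable_injective hj
      have h4 : Group.IsSolvable ↥(((V ⊔ N).subgroupOf (centralizer ({z} : Set D))).map f) :=
        Group.isSolvable_of_surjective (f.subgroupMap_surjective _)
      rw [h2] at h4
      exact Group.isSolvable_of_surjective (f := (topEquiv (G := A)).toMonoidHom) topEquiv.surjective
  rw [eq_bot_iff]
  intro v hv
  obtain ⟨n, hn, c, hc, rfl⟩ := h.sup v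
  have hcm : c ∈ V ⊔ N := by
    have h4 : c = n⁻¹ * (n * c) := by group
    rw [h4]
    exact mul_mem (mem_sup_right (N.inv_mem hn)) (mem_sup_left hv)
  have h1 := hfc ⟨c, mem_centralizer_singleton_iff.2 hc⟩ hcm
  obtain ⟨i, hi⟩ := h.ker _ h1
  have hi' : c = x ^ i ∨ c = x ^ i * z := hi
  rcases hi' with hi | hi
  · rw [← hVN]
    refine ⟨hv, ?_⟩
    rw [hi]
    exact N.mul_mem hn (N.zpow_mem h.xN i)
  · exfalso
    -- `S ≤ ⟨x⟩`
    have hSx : S ≤ zpowers x := by
      intro s hs'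
      have h2 := mem_centralizer_iff.1 (hVS hv) s hs'
      have hm : n * x ^ i ∈ N := N.mul_mem hn (N.zpow_mem h.xN i)
      have hvm : n * c = (n * x ^ i) * z := by rw [hi, mul_assoc]
      rw [hvm] at h2
      obtain ⟨m, hmd⟩ : ∃ m, m = n * x ^ i := ⟨_, rfl⟩
      rw [← hmd] at h2 hm
      obtain ⟨j, hj⟩ := h.comm hp2 (N.inv_mem hm) (hSN hs')
      have h3 : z * s * z⁻¹ = s * x ^ j := by
        rw [← hj]
        calc z * s * z⁻¹ = m⁻¹ * ((m * z) * s) * z⁻¹ := by group
          _ = m⁻¹ * (s * (m * z)) * z⁻¹ := by rw [h2]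
          _ = m⁻¹ * s * m⁻¹⁻¹ := by group
      rw [h.cent_of_mod hp2 h.zz h3, mul_one, mul_inv_eq_iff_eq_mul] at h3
      exact h.cN s (hSN hs') h3.symm
    apply hAc
    have htop : centralizer (S : Set D) = ⊤ := by
      rw [eq_top_iff]
      intro g _
      rw [mem_centralizer_iff]
      intro s hs'
      obtain ⟨j, rfl⟩ := mem_zpowers_iff.1 (hSx hs')
      exact (h.xzc j g).symm
    rw [htop] at hs
    have hD : Group.IsSolvable D := Group.isSolvable_of_surjective (f := (topEquiv (G := D)).toMonoidHom) topEquiv.surjective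
    have hC : Group.IsSolvable ↥(centralizer ({z} : Set D)) :=
      Group.isSolvable_of_isSolvable_injective (centralizer ({z} : Set D)).subtype_injective
    exact Group.isSolvable_of_surjective h.surj

end Cfsg.Agent.H316.VZ.RadCore
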