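import Cfsg.Agent.H316.VZ.Cons
import Cfsg.Agent.H316.VZ.RadCore
import Cfsg.Agent.H316.VZ.CoOneCent
import Cfsg.Agent.BpSpor.BFiveZero
import Cfsg.Agent.BpSpor.MFiveHA
import Cfsg.Agent.H794.MonSevenLoc
import Cfsg.Agent.MFive.JTwo
import Cfsg.Agent.MonsterP.Equiv

/-!
# S4555/S4559: the Monster, `p = 5` (helper316)

`x` of order 5 of fixed rank 0: `C(x)` is `5`-constrained.
-/

set_option autoImplicit false
set_option maxRecDepth 100000

namespace Cfsg.Agent.H316.VZ.MFive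

open Subgroup Cfsg Cfsg.Agent.BpTab Cfsg.Agent.Lib Cfsg.Agent.BpSpor
open Cfsg.Agent.MonsterU Cfsg.Agent.MFive
open Cfsg.Agent.LThreeMB (fr Zx XX zD toCC toCC_inj toXX self conj_Q)
open Cfsg.Agent.MonsterU.Ch
open Cfsg.Agent.MonsterU.Lam2 (L2)
open Cfsg.Spor (Co1)

universe u

section free

variable {G : Type u} [Group G] {Q : Subgroup G} {z : G} {eta : G → L2}
  {pi : Subgroup.centralizer ({z} : Set G) →* Co1}

/-- **No element of prime order `r ≠ 2, 5` of a normal `5'`-subgroup of odd order of `C(x)` commutes with `u`.** -/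
theorem no_prime [Finite G] (h : Chart Q z eta pi) (htr : TrNe 5 z pi)
    {x : Subgroup.centralizer ({z} : Set G)} (hx : orderOf x = 5) (hfr : fr (pi x) = 1) {u g s : G}
    (huz : u * z = z * u) (hux : u * (x : G) = x * u) (hne : u ≠ z) (hg : g * z * g⁻¹ = u)
    (hsx : s * (x : G) = x * s) (hsu : s * u = u * s) {k : ℕ} (hs5 : s ^ 5 ^ k = 1) (hsn : s ∉ zpowers (x : G))
    {W : Subgroup G} (hWx : ∀ w ∈ W, w * (x : G) = x * w)
    (hWn : ∀ c : G, c * (x : G) = x * c → ∀ w ∈ W, c * w * c⁻¹ ∈ W) (hWo : Odd (Nat.card ↥W))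
    (hWs : ∀ w ∈ W, w * s = s * w) {w : G} (hw : w ∈ W) (hwu : w * u = u * w) (hr : (orderOf w).Prime)
    (h2 : orderOf w ≠ 2) (h5 : orderOf w ≠ 5) : False := by
  have hp : Nat.Prime 5 := Nat.prime_five
  have hpf : Fact (Nat.Prime 5) := ⟨hp⟩
  have ho : Odd 5 := by decide
  have hz2 : z * z = 1 := h.large.z_sq
  have hcz : ∀ a : G, a * u = u * a → g⁻¹ * a * g ∈ centralizer ({z} : Set G) := by
    intro a ha
    rw [mem_centralizer_singleton_iff]
    calc g⁻¹ * a * g * z = g⁻¹ * (a * (g * z * g⁻¹)) * g := by group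
      _ = g⁻¹ * ((g * z * g⁻¹) * a) * g := by rw [hg, ha]
      _ = z * (g⁻¹ * a * g) := by group
  let y : Subgroup.centralizer ({z} : Set G) := ⟨g⁻¹ * x * g, hcz _ hux.symm⟩
  let w' : Subgroup.centralizer ({z} : Set G) := ⟨g⁻¹ * w * g, hcz _ hwu⟩
  let s' : Subgroup.centralizer ({z} : Set G) := ⟨g⁻¹ * s * g, hcz _ hsu⟩
  have hgy : g * (y : G) * g⁻¹ = x := by
    show g * (g⁻¹ * (x : G) * g) * g⁻¹ = x
    group
  have hy : orderOf y = 5 := by
    rw [← Subgroup.orderOf_coe]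
    show orderOf (g⁻¹ * (x : G) * g) = 5
    rw [orderOf_conj'', Subgroup.orderOf_coe, hx]
  have hw' : orderOf w' = orderOf w := by
    rw [← Subgroup.orderOf_coe]
    exact orderOf_conj'' g w
  have hu2 : u * u = 1 := by
    rw [← hg]
    calc g * z * g⁻¹ * (g * z * g⁻¹) = g * (z * z) * g⁻¹ := by group
      _ = 1 := by rw [hz2]; group
  have hu1 : u ≠ 1 := by
    intro h1
    apply h.large.z_ne
    calc z = g⁻¹ * (g * z * g⁻¹) * g := by group
      _ = 1 := by rw [hg, h1]; group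
  have hfy : fr (pi y) ≠ 1 := by
    intro h1
    refine htr x y u g hx hy hfr h1 huz hu2 hu1 hne hux.symm ?_
    calc g * ((y : G) * z) * g⁻¹ = (g * y * g⁻¹) * (g * z * g⁻¹) := by group
      _ = x * u := by rw [hgy, hg]
  have hwo : Odd (orderOf w) := hr.odd_of_ne_two h2
  have hwy : (w' : G) * y = y * w' := by
    show g⁻¹ * w * g * (g⁻¹ * x * g) = g⁻¹ * x * g * (g⁻¹ * w * g)
    calc g⁻¹ * w * g * (g⁻¹ * x * g) = g⁻¹ * (w * x) * g := by group
      _ = g⁻¹ * (x * w) * g := by rw [hWx w hw]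
      _ = _ := by group
  have hws : (w' : G) * s' = s' * w' := by
    show g⁻¹ * w * g * (g⁻¹ * s * g) = g⁻¹ * s * g * (g⁻¹ * w * g)
    calc g⁻¹ * w * g * (g⁻¹ * s * g) = g⁻¹ * (w * s) * g := by group
      _ = g⁻¹ * (s * w) * g := by rw [hWs w hw]
      _ = _ := by group
  have hsy : (s' : G) * y = y * s' := by
    show g⁻¹ * s * g * (g⁻¹ * x * g) = g⁻¹ * x * g * (g⁻¹ * s * g)
    calc g⁻¹ * s * g * (g⁻¹ * x * g) = g⁻¹ * (s * x) * g := by group
      _ = g⁻¹ * (x * s) * g := by rw [hsx]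
      _ = _ := by group
  -- `w'` centralises `C_Q(y)`
  have hwQ : ∀ q ∈ Q, (y : G) * q = q * y → (w' : G) * q = q * w' := by
    intro q hq hyq
    have h1 : (w' : G) * q * (w' : G)⁻¹ * q⁻¹ ∈ Q := Q.mul_mem (conj_Q h w' q hq) (Q.inv_mem hq)
    have hgq : (g * q⁻¹ * g⁻¹) * (x : G) = x * (g * q⁻¹ * g⁻¹) := by
      have h3 : q⁻¹ * (y : G) = y * q⁻¹ := (show Commute (y : G) q from hyq).symm.inv_left
      calc (g * q⁻¹ * g⁻¹) * (x : G) = g * q⁻¹ * g⁻¹ * (g * y * g⁻¹) := by rw [hgy]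
        _ = g * (q⁻¹ * y) * g⁻¹ := by group
        _ = g * (y * q⁻¹) * g⁻¹ := by rw [h3]
        _ = (g * y * g⁻¹) * (g * q⁻¹ * g⁻¹) := by group
        _ = _ := by rw [hgy]
    have h2' : g * ((w' : G) * q * (w' : G)⁻¹ * q⁻¹) * g⁻¹ ∈ W := by
      have h3 := hWn _ (show (g * q * g⁻¹) * (x : G) = x * (g * q * g⁻¹) from by
        have h4 := (show Commute (g * q⁻¹ * g⁻¹) (x : G) from hgq).inv_left
        have h5 : (g * q⁻¹ * g⁻¹)⁻¹ = g * q * g⁻¹ := by group
        rw [h5] at h4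
        exact h4) _ (W.inv_mem hw)
      have h4 := W.mul_mem hw h3
      have h5 : w * (g * q * g⁻¹ * w⁻¹ * (g * q * g⁻¹)⁻¹) = g * ((w' : G) * q * (w' : G)⁻¹ * q⁻¹) * g⁻¹ := by
        show _ = g * ((g⁻¹ * w * g) * q * (g⁻¹ * w * g)⁻¹ * q⁻¹) * g⁻¹
        group
      rw [← h5]
      exact h4
    have h3 : ((w' : G) * q * (w' : G)⁻¹ * q⁻¹) ^ 4 = 1 := pow_four h h1
    have h4 : Odd (orderOf ((w' : G) * q * (w' : G)⁻¹ * q⁻¹)) := by
      have h5 : orderOf (g * ((w' : G) * q * (w' : G)⁻¹ * q⁻¹) * g⁻¹) = orderOf ((w' : G) * q * (w' : G)⁻¹ * q⁻¹) :=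
        MulEquiv.orderOf_eq (MulAut.conj g) _
      rw [← h5, ← Subgroup.orderOf_mk _ h2']
      exact hWo.of_dvd_nat (orderOf_dvd_natCard _)
    have h5 : (w' : G) * q * (w' : G)⁻¹ * q⁻¹ = 1 := by
      rw [← orderOf_eq_one_iff]
      have h6 : Nat.Coprime (orderOf ((w' : G) * q * (w' : G)⁻¹ * q⁻¹)) 4 := by
        rw [show (4 : ℕ) = 2 ^ 2 from rfl]
        exact Nat.Coprime.pow_right 2 (Nat.coprime_two_right.2 h4)
      exact Nat.Coprime.eq_one_of_dvd h6 (orderOf_dvd_of_pow_eq_one h3)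
    rw [mul_inv_eq_one, mul_inv_eq_iff_eq_mul] at h5
    exact h5
  -- the fixed vectors
  have hyp : y ^ 5 = 1 := by rw [← hy, pow_orderOf_eq_one]
  have hwp : w' ^ orderOf w = 1 := by rw [← hw', pow_orderOf_eq_one]
  have hfix : ∀ v : L2, pi y • v = v → pi w' • v = v := by
    intro v hv
    obtain ⟨q, hq, rfl⟩ := h.eta_surj v
    exact (comm_iff_fix h hwo hwp hq).1 (hwQ q hq ((comm_iff_fix h ho hyp hq).2 hv))
  have hfw : fr (pi w') ≠ 1 := by
    intro h1
    apply hfy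
    have h3 := (Nat.card_eq_one_iff_unique.1 h1).1
    refine Nat.card_eq_one_iff_unique.2 ⟨⟨fun a b => Subtype.ext ?_⟩, ⟨⟨0, smul_zero _⟩⟩⟩
    have h4 : (⟨a, hfix a a.2⟩ : {v : L2 // pi w' • v = v}) = ⟨b, hfix b b.2⟩ := Subsingleton.elim _ _
    exact congrArg (fun v : {v : L2 // pi w' • v = v} => (v : L2)) h4
  -- `25 ∣ |C(pi w')|`
  have hoy : orderOf (pi y) = 5 := orderOf_pi h hp ho hy
  have how : orderOf (pi w') = orderOf w := orderOf_pi h hr hwo hw'
  have hs5' : pi s' ^ 5 ^ k = 1 := by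
    rw [← map_pow]
    have h3 : s' ^ 5 ^ k = 1 := by
      apply Subtype.ext
      show (g⁻¹ * s * g) ^ 5 ^ k = 1
      have h4 : g⁻¹ * s * g = g⁻¹ * s * g⁻¹⁻¹ := by rw [inv_inv]
      rw [h4, conj_pow, hs5]
      group
    rw [h3, map_one]
  have hcm : pi s' * pi y = pi y * pi s' := by
    rw [← map_mul, ← map_mul]
    congr 1
    exact Subtype.ext hsy
  have hP : IsPGroup 5 ↥(zpowers (pi y) ⊔ zpowers (pi s')) :=
    H794.MonSevenLoc.isPGroup_two hcm (H794.MonSevenLoc.isPGroup_zpowers (k := 1) (by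
      rw [pow_one, ← hoy, pow_orderOf_eq_one])) (H794.MonSevenLoc.isPGroup_zpowers hs5')
  have hn : pi s' ∉ zpowers (pi y) := by
    intro h1
    obtain ⟨i, hi⟩ := mem_zpowers_iff.1 h1
    have h3 : pi (s' * y ^ (-i)) = 1 := by
      rw [map_mul, map_zpow, zpow_neg, hi, mul_inv_cancel]
    have h4 : ((s' * y ^ (-i) : Subgroup.centralizer ({z} : Set G)) : G) ∈ Q := (h.pi_eq_one _).1 h3
    have h6 : ((s' * y ^ (-i) : Subgroup.centralizer ({z} : Set G)) : G) ^ 4 = 1 := pow_four h h4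
    have hc : Commute (s' : G) ((y : G) ^ (-i)) := (show Commute (s' : G) (y : G) from hsy).zpow_right (-i)
    have h7 : ((s' * y ^ (-i) : Subgroup.centralizer ({z} : Set G)) : G) ^ 5 ^ (k + 1) = 1 := by
      have e1 : ((s' * y ^ (-i) : Subgroup.centralizer ({z} : Set G)) : G) = (s' : G) * (y : G) ^ (-i) := by
        rw [Subgroup.coe_mul, Subgroup.coe_zpow]
      rw [e1, hc.mul_pow]
      have e2 : (s' : G) ^ 5 ^ (k + 1) = 1 := by
        show (g⁻¹ * s * g) ^ 5 ^ (k + 1) = 1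
        have h4 : g⁻¹ * s * g = g⁻¹ * s * g⁻¹⁻¹ := by rw [inv_inv]
        rw [h4, conj_pow, pow_succ 5 k, pow_mul, hs5, one_pow]
        group
      have e3 : ((y : G) ^ (-i)) ^ 5 ^ (k + 1) = 1 := by
        have h5y : (y : G) ^ 5 = 1 := MFive.coe_pow hyp
        rw [← zpow_natCast, ← zpow_mul, mul_comm, zpow_mul, zpow_natCast, pow_succ' 5 k, pow_mul, h5y, one_pow,
          one_zpow]
      rw [e2, e3, one_mul]
    have h8 : ((s' * y ^ (-i) : Subgroup.centralizer ({z} : Set G)) : G) ^ (Nat.gcd 4 (5 ^ (k + 1))) = 1 :=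
      pow_gcd_eq_one.2 ⟨h6, h7⟩
    have h9 : Nat.gcd 4 (5 ^ (k + 1)) = 1 := by
      have : Nat.Coprime 4 (5 ^ (k + 1)) := Nat.Coprime.pow_right _ (by decide)
      exact this
    rw [h9, pow_one] at h8
    apply hsn
    rw [mem_zpowers_iff]
    refine ⟨i, ?_⟩
    have e1 : ((s' * y ^ (-i) : Subgroup.centralizer ({z} : Set G)) : G) = (s' : G) * (y : G) ^ (-i) := by
      rw [Subgroup.coe_mul, Subgroup.coe_zpow]
    rw [e1, zpow_neg, mul_inv_eq_one] at h8
    have h10 : s = g * (s' : G) * g⁻¹ := by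
      show s = g * (g⁻¹ * s * g) * g⁻¹
      group
    rw [h10, h8, ← hgy, conj_zpow]
  have hd : 5 ^ 2 ∣ Nat.card ↥(zpowers (pi y) ⊔ zpowers (pi s')) :=
    H794.MonSevenLoc.sq_dvd_of_notMem hP hoy (mem_sup_left (mem_zpowers _)) (mem_sup_right (mem_zpowers _)) hn
  have hle : zpowers (pi y) ⊔ zpowers (pi s') ≤ centralizer ({pi w'} : Set Co1) := by
    refine sup_le (zpowers_le.2 ?_) (zpowers_le.2 ?_)
    · rw [mem_centralizer_singleton_iff, ← map_mul, ← map_mul]
      congr 1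
      exact Subtype.ext hwy.symm
    · rw [mem_centralizer_singleton_iff, ← map_mul, ← map_mul]
      congr 1
      exact Subtype.ext hws.symm
  refine CoOneCent.main (s := pi w') (by rw [how]; exact hr) (by rw [how]; exact h2) (by rw [how]; exact h5)
    (fun _ => hfw) ?_
  have h11 : (5 : ℕ) ^ 2 = 25 := by norm_num
  rw [← h11]
  exact hd.trans (Subgroup.card_dvd_of_le hle)

/-- a power of prime order -/
theorem exists_prime_pow {H : Type*} [Group H] [Finite H] {v : H} (hv : v ≠ 1) :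
    ∃ m : ℕ, (orderOf (v ^ m)).Prime ∧ orderOf (v ^ m) ∣ orderOf v := by
  have h1 : orderOf v ≠ 1 := fun h => hv (orderOf_eq_one_iff.1 h)
  have h2 : (orderOf v).minFac.Prime := Nat.minFac_prime h1
  have h3 : (orderOf v).minFac ∣ orderOf v := Nat.minFac_dvd _
  refine ⟨orderOf v / (orderOf v).minFac, ?_⟩
  rw [orderOf_pow_orderOf_div (orderOf_pos v).ne' h3]
  exact ⟨h2, h3⟩

/-- **`C(x)` is `5`-constrained**, `x` of fixed rank 0. -/
theorem constrained [Finite G] (h : Chart Q z eta pi) (htr : TrNe 5 z pi) (hpr : HasPair 5 z pi) (hcl : WClassOf 5 1)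
    {x : Subgroup.centralizer ({z} : Set G)} (hx : orderOf x = 5) (hfr : fr (pi x) = 1)
    (hJ : Spor.IsoJ2 (XX (pi x))) (hD : 5 ^ 4 ∣ Nat.card ↥(centralizer ({(x : G)} : Set G)))
    {k : G} (hkx : k * (x : G) = x * k) (hkk : k * k = z) :
    centralizer (pCore 5 ↥(centralizer ({(x : G)} : Set G)) : Set ↥(centralizer ({(x : G)} : Set G))) ≤
      pCore 5 ↥(centralizer ({(x : G)} : Set G)) := by
  have h5 : Fact (Nat.Prime 5) := ⟨Nat.prime_five⟩
  obtain ⟨f1, f2, f3, f4⟩ := M5.j2_facts hJ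
  obtain ⟨N, hN⟩ := M5.exists_rad h (by decide) hx hfr (fun d hd hc => isolated h htr hx hfr d hd hc) f1 f2
  have hkz : k * z = z * k := by rw [← hkk, mul_assoc]
  let kD : ↥(centralizer ({zD x} : Set ↥(centralizer ({(x : G)} : Set G)))) :=
    ⟨⟨k, mem_centralizer_singleton_iff.2 hkx⟩, mem_centralizer_singleton_iff.2 (Subtype.ext hkz)⟩
  have hkD : (kD : ↥(centralizer ({(x : G)} : Set G))) * kD = zD x := Subtype.ext hkk
  obtain ⟨S, hS, hSp, hSN, hxS, hs⟩ := hN.exists_radical f3 (by decide) hkD hD f4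
  have hzz : z * z = 1 := h.large.z_sq
  -- the second involution
  obtain ⟨u, g₀, huz, hux, hune, hg₀⟩ := B5.exists_u h hpr hcl hx hfr
  have huu : u * u = 1 := by
    rw [← hg₀]
    calc g₀ * z * g₀⁻¹ * (g₀ * z * g₀⁻¹) = g₀ * (z * z) * g₀⁻¹ := by group
      _ = 1 := by rw [hzz]; group
  have hu1 : u ≠ 1 := by
    intro h1
    apply h.large.z_ne
    calc z = g₀⁻¹ * (g₀ * z * g₀⁻¹) * g₀ := by group
      _ = 1 := by rw [hg₀, h1]; group
  let w : ↥(centralizer ({zD x} : Set ↥(centralizer ({(x : G)} : Set G)))) :=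
    ⟨⟨u, mem_centralizer_singleton_iff.2 hux⟩, mem_centralizer_singleton_iff.2 (Subtype.ext huz)⟩
  have hww : (w : ↥(centralizer ({(x : G)} : Set G))) * w = 1 := Subtype.ext huu
  have hw1 : (w : ↥(centralizer ({(x : G)} : Set G))) ≠ 1 := fun h1 => hu1 (congrArg Subtype.val h1)
  have hwz : (w : ↥(centralizer ({(x : G)} : Set G))) ≠ zD x := fun h1 => hune (congrArg Subtype.val h1)
  -- `f w ≠ 1`
  have hfw : toXX pi x w ≠ 1 := by
    intro h1
    obtain ⟨i, hi | hi⟩ := hN.ker w h1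
    · apply hw1
      rw [hi]
      refine hN.sq_one (by decide) ?_
      rw [← hi]
      exact hww
    · apply hwz
      have h2 : self (x : G) ^ i * self (x : G) ^ i = 1 := by
        have h3 := hww
        rw [hi] at h3
        calc self (x : G) ^ i * self (x : G) ^ i = self (x : G) ^ i * self (x : G) ^ i * (zD x * zD x) := by
              rw [hN.zz, mul_one]
          _ = self (x : G) ^ i * (self (x : G) ^ i * zD x) * zD x := by group
          _ = self (x : G) ^ i * (zD x * self (x : G) ^ i) * zD x := by rw [hN.xzc i (zD x)]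
          _ = self (x : G) ^ i * zD x * (self (x : G) ^ i * zD x) := by group
          _ = 1 := h3
      rw [hi, hN.sq_one (by decide) h2, one_mul]
  -- `s ∈ S` commuting with `u`
  have hzcm : (w : ↥(centralizer ({(x : G)} : Set G))) * zD x = zD x * w := mem_centralizer_singleton_iff.1 w.2
  have hex : ∃ s ∈ S, (w : ↥(centralizer ({(x : G)} : Set G))) * s = s * w ∧ s ∉ zpowers (self (x : G)) := by
    by_contra hcon
    push Not at hcon
    have h1 := B5.cent_of_fix (by decide) hN hSN hww hzcm hcon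
    have hzC : zD x ∈ centralizer ({zD x} : Set ↥(centralizer ({(x : G)} : Set G))) :=
      mem_centralizer_singleton_iff.2 rfl
    have hfz : toXX pi x ⟨zD x, hzC⟩ = 1 :=
      hN.f_central f3 fun g => Subtype.ext (mem_centralizer_singleton_iff.1 g.2)
    exact B5.not_mem_cent f3 hN hs (s := w * ⟨zD x, hzC⟩) (by rw [map_mul, hfz, mul_one]; exact hfw) h1
  obtain ⟨s, hsS, hsw, hsn⟩ := hex
  obtain ⟨m, hm⟩ := hSp ⟨s, hsS⟩
  have hcore : pPrimeCore 5 ↥(centralizer ({(x : G)} : Set G)) = ⊥ := by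
    refine RadCore.pPrimeCore_eq_bot f3 (by decide) hN hSN hs fun W hWn hWN hWp => ?_
    refine RadCore.bot_of_fpf f3 (by decide) hN hkD hww hfw hWN hWp fun v hv hvw => ?_
    by_contra hne
    obtain ⟨m', hm1, hm2⟩ := exists_prime_pow hne
    have hvm : v ^ m' ∈ W := W.pow_mem hv m'
    have hdW : orderOf (v ^ m') ∣ Nat.card ↥W := by
      rw [← Subgroup.orderOf_mk _ hvm]
      exact orderOf_dvd_natCard _
    have hWo : Odd (Nat.card ↥W) := hN.oN.of_dvd_nat (card_dvd_of_le hWN)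
    have hco : orderOf ((v ^ m' : ↥(centralizer ({(x : G)} : Set G))) : G) = orderOf (v ^ m') := Subgroup.orderOf_coe _
    have hcard : Nat.card ↥(W.map (centralizer ({(x : G)} : Set G)).subtype) = Nat.card ↥W :=
      card_map_of_injective (centralizer ({(x : G)} : Set G)).subtype_injective
    refine no_prime h htr hx hfr (u := u) (g := g₀) (s := (s : G)) huz hux hune hg₀
      (mem_centralizer_singleton_iff.1 s.2) (congrArg Subtype.val hsw).symm (k := m)
      (congrArg (fun y : ↥S => ((y : ↥(centralizer ({(x : G)} : Set G))) : G)) hm) ?_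
      (W := W.map (centralizer ({(x : G)} : Set G)).subtype) ?_ ?_ (by rw [hcard]; exact hWo) ?_
      (w := ((v ^ m' : ↥(centralizer ({(x : G)} : Set G))) : G)) (mem_map_of_mem _ hvm) ?_ (by rw [hco]; exact hm1) ?_ ?_
    · intro h1
      obtain ⟨i, hi⟩ := mem_zpowers_iff.1 h1
      exact hsn (mem_zpowers_iff.2 ⟨i, Subtype.ext hi⟩)
    · rintro _ ⟨a, -, rfl⟩
      exact mem_centralizer_singleton_iff.1 a.2
    · rintro c hc _ ⟨a, ha, rfl⟩
      exact ⟨⟨c, mem_centralizer_singleton_iff.2 hc⟩ * a * ⟨c, mem_centralizer_singleton_iff.2 hc⟩⁻¹,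
        hWn.conj_mem a ha _, rfl⟩
    · rintro _ ⟨a, ha, rfl⟩
      -- `[W, S] = 1`
      have hdis : W ⊓ S = ⊥ := by
        obtain ⟨n, hn⟩ := IsPGroup.iff_card.1 hSp
        refine (Subgroup.disjoint_of_coprime_natCard ?_).eq_bot
        rw [hn]
        exact Nat.Coprime.pow_right n hWp
      have h1 : a * s * a⁻¹ * s⁻¹ ∈ W ⊓ S := by
        refine ⟨?_, S.mul_mem (hS.conj_mem s hsS a) (S.inv_mem hsS)⟩
        have e : a * s * a⁻¹ * s⁻¹ = a * (s * a⁻¹ * s⁻¹) := by group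
        rw [e]
        exact W.mul_mem ha (hWn.conj_mem _ (W.inv_mem ha) s)
      rw [hdis, mem_bot, mul_inv_eq_one, mul_inv_eq_iff_eq_mul] at h1
      exact congrArg Subtype.val h1
    · have h1 : Commute v (w : ↥(centralizer ({(x : G)} : Set G))) := hvw
      exact congrArg Subtype.val (h1.pow_left m')
    · rw [hco]
      intro h1
      rw [h1] at hdW
      exact (Nat.not_even_iff_odd.2 hWo) (even_iff_two_dvd.2 hdW)
    · rw [hco]
      intro h1
      rw [h1] at hdW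
      have h3 := Nat.Coprime.eq_one_of_dvd (hWp.coprime_dvd_left hdW) dvd_rfl
      norm_num at h3
  exact constrained_of_radical hcore hSp hs

end free

end Cfsg.Agent.H316.VZ.MFive

namespace Cfsg.Agent.H316.VZ.MFive

open Cfsg Cfsg.Agent.MonsterX Cfsg.Agent.MonsterX.InstData Cfsg.Agent.MonsterX.MainPack Cfsg.Agent.MonsterU
open Cfsg.Agent.MonsterP Cfsg.Agent.MonsterN
open Cfsg.Agent.LThreeMB (KChart.Cent KChart.pi KChart.chart fr)
open Subgroup (centralizer mem_centralizer_singleton_iff)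

universe u

/-- in the model of the Monster -/
theorem model (hNB : H7.NBp.NB 5 ↥InstData.M.G) : H620.PNorm.VOrdP 5 ↥InstData.M.G := by
  have h5 : Fact (Nat.Prime 5) := ⟨Nat.prime_five⟩
  have hfin : Finite ↥InstData.M.G := Cfsg.Agent.MFive.Row.finite_model
  have hJ : CpAutBFive.Closed.HJ := fun _ hs h => Cfsg.Agent.MFive.JTwo.isoJ2 hs h
  have h := KChart.chart KDone.lft Cfsg.Agent.MFive.Row.hc
  obtain ⟨x₀, k, hx₀, hfr₀, hk, hkk⟩ := BpSpor.M5.exists_k BpSpor.M5.hA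
  have hJx := hJ _ (Cfsg.Agent.MFive.orderOf_pi h Nat.prime_five (by decide) hx₀) hfr₀
  have hD := BpSpor.M5.dvd_zero h BpSpor.M5.trNe (CpAutBFive.Closed.coFive hJ) CpAutBFive.Closed.hnEight
    BpSpor.M5.hasPair (CoFive.Ranks.wclassOf _) CoFive.Sylow.exists_four hx₀ hfr₀
  refine vOrdP_of_oneB hNB (z := (x₀ : ↥InstData.M.G)) (by rw [Subgroup.orderOf_coe, hx₀]) fun M hM => ?_
  exact oneB_of_constrained hM (constrained h BpSpor.M5.trNe BpSpor.M5.hasPair (CoFive.Ranks.wclassOf _) hx₀ hfr₀ hJx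
    hD hk hkk)

/-- **S4555/S4559: the Monster, `p = 5`.** -/
theorem m_five {K : Type u} [Group K] (h : Spor.IsoM K) (hNB : H7.NBp.NB 5 K) : H620.PNorm.VOrdP 5 K := by
  have h5 : Fact (Nat.Prime 5) := ⟨Nat.prime_five⟩
  have hfin : Finite ↥InstData.M.G := Cfsg.Agent.MFive.Row.finite_model
  obtain ⟨e⟩ := h
  obtain ⟨e'⟩ := Cfsg.Agent.MonsterP.Equiv.equiv
  have hK : Finite K := Finite.of_equiv _ (e.trans e').symm.toEquiv
  exact (model (H7.NBp.NB.iso (e.trans e') hNB)).mulEquiv (e.trans e').symm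

end Cfsg.Agent.H316.VZ.MFive
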