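import Cfsg.Agent.H316.VZ.Iso
import Cfsg.Agent.H828.BThree

/-!
# S4555/S4559: the Monster, `p = 3` (helper316)

`x` of order 3 and fixed rank 0 (class 3B), `D = C(x)`: `O_{3'}(D) = 1` (helper23) and `z` is isolated in `D`, so `D` has
only one 3-block.

* `not_central`, `core_bot`, `oneB_zero` : in a group with a lift;
* `m_three` : `VOrdP 3 K` for `K ≅ M` with more than one 3-block.
-/

set_option autoImplicit false
set_option maxRecDepth 100000

namespace Cfsg.Agent.H316.VZ.MThree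

open Cfsg Cfsg.Agent.BpSpor.BThree Cfsg.Agent.Lib
open Cfsg.Agent.BpSpor.MThree (Dat core_le_center valid_lM tab_lM nM lM dat_zero)
open Subgroup (centralizer zpowers mem_centralizer_singleton_iff center)
open Cfsg.Agent.MonsterU Cfsg.Agent.LThree Cfsg.Agent.LThreeMB Cfsg.Agent.LThreeB
open Cfsg.Agent.MonsterU.Ch
open Cfsg.Agent.MonsterU.Lam2 (L2)
open Cfsg.Spor (Co1)
open Cfsg.Agent.MonsterX.KSide Cfsg.Agent.MonsterX.KLift

universe u v

section abs

variable {D : Type u} [Group D] [Finite D] {z : D} {X : Type v} [Group X]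
  {φ : ↥(centralizer ({z} : Set D)) →* X}

/-- `O_{3'}(D) = 1`. -/
theorem core_bot (H : Zer z φ) (h : Dat φ) (hD : Nat.card D ∣ nM) (hne : ∃ d : D, d * z ≠ z * d) :
    pPrimeCore 3 D = ⊥ := by
  obtain ⟨e⟩ := h.suz
  obtain ⟨N, hN, hNo, hsup⟩ := LThreeMB.ZStar.exists_core h.ord h.iso
  have hle := core_le_center h.z2 h.surj h.ker e h.no7 hN hNo hsup valid_lM hD tab_lM
  have hX : IsSimpleGroup X := h.simple
  rw [eq_bot_iff]
  intro w hw
  have hwc : w ∈ center D := hle hw
  have hwz : w * z = z * w := ((Subgroup.mem_center_iff.1 hwc) z).symm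
  have hφ : φ ⟨w, mem_centralizer_singleton_iff.2 hwz⟩ = 1 := by
    have h1 : φ ⟨w, mem_centralizer_singleton_iff.2 hwz⟩ ∈ center X := by
      rw [Subgroup.mem_center_iff]
      intro y
      obtain ⟨c, rfl⟩ := h.surj y
      rw [← map_mul, ← map_mul]
      congr 1
      exact Subtype.ext ((Subgroup.mem_center_iff.1 hwc) c)
    have h2 : center X = ⊥ := by
      refine ((inferInstance : (center X).Normal).eq_bot_or_eq_top).resolve_right fun h3 => ?_
      have h4 : ∀ a b : X, a * b = b * a := fun a b => (Subgroup.mem_center_iff.1 (h3 ▸ Subgroup.mem_top b) a)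
      let _ : CommGroup X := { (inferInstance : Group X) with mul_comm := h4 }
      have hXf : Finite X := Finite.of_surjective φ h.surj
      have h5 : (Nat.card X).Prime := IsSimpleGroup.prime_card
      rw [h.card] at h5
      revert h5
      norm_num
    rw [h2, Subgroup.mem_bot] at h1
    exact h1
  have h6 := h.ker.six _ (MonoidHom.mem_ker.2 hφ)
  have h6' : w ^ 6 = 1 := congrArg Subtype.val h6
  have hcop := Cores.pPrimeCore_coprime (G := D) 3
  have ho : orderOf w ∣ Nat.card (pPrimeCore 3 D) := by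
    rw [← Subgroup.orderOf_mk w hw]
    exact orderOf_dvd_natCard _
  have h2 : w ^ 2 = 1 := by
    rw [← orderOf_dvd_iff_pow_eq_one]
    have h4 : orderOf w ∣ 2 * 3 := orderOf_dvd_of_pow_eq_one h6'
    exact Nat.Coprime.dvd_of_dvd_mul_right (hcop.coprime_dvd_left ho) h4
  rw [Subgroup.mem_bot]
  rcases h.ker.two _ (MonoidHom.mem_ker.2 hφ) (Subtype.ext (by rw [← pow_two]; exact h2)) with h3 | h3
  · exact congrArg Subtype.val h3
  · exfalso
    obtain ⟨d, hd⟩ := hne
    apply hd
    have h4 : w = z := congrArg Subtype.val h3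
    rw [← h4]
    exact (Subgroup.mem_center_iff.1 hwc) d

/-- `C_D(O_3(D)) ≤ O_3(D)`. -/
theorem constrained (H : Zer z φ) (h : Dat φ) (hD : Nat.card D ∣ nM) (hne : ∃ d : D, d * z ≠ z * d) :
    centralizer (pCore 3 D : Set D) ≤ pCore 3 D := by
  have : Fact (Nat.Prime 3) := ⟨Nat.prime_three⟩
  refine constrained_of_isolated (by norm_num) h.ord h.iso h.surj h.simple ?_
    (BpSpor.MThree.ker_solvable h.ker) (fun K hK ⟨w, hw, hw1⟩ => H.cover hK hw hw1)
    (fun N hN hNo n hn hnz => (H.odd_center hN hNo hn hnz).1) (core_bot H h hD hne) hne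
  rw [h.card]
  decide

end abs

section lift

variable {G : Type u} {V P W : Type*} [Group G] [AddCommGroup V] [Module ℚ V]
  [DistribMulAction G V] [SMulCommClass G ℚ V] [Group P] [AddCommGroup W] [Module ℚ W]
  {M : KS G V P W} {θ : leechLattice → P}

/-- `z` is not central in `C(x)`. -/
theorem not_central [Finite G] [IsSimpleGroup G] (L : Lift M θ) (hc : KChart.Cent M) (I : CoOne)
    (ht : TrNe M.z (KChart.pi hc)) (hp : HasPair M.z (KChart.pi hc)) {x : centralizer ({M.z} : Set G)}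
    (hx : orderOf x = 3) (hfr : fr (KChart.pi hc x) = 1) :
    ∃ d : ↥(centralizer ({(x : G)} : Set G)), d * zD x ≠ zD x * d := by
  have h := KChart.chart L hc
  have hS := I.suz _ (orderOf_pi h hx) hfr
  have hDat := dat_zero L hc ht hx hfr hS
  obtain ⟨u, g, huz, hxu, hne, hg⟩ := exists_pair h hp hx hfr
  have hx'z : g⁻¹ * (x : G) * g ∈ centralizer ({M.z} : Set G) := by
    rw [mem_centralizer_singleton_iff]
    calc g⁻¹ * (x : G) * g * M.z = g⁻¹ * (x * (g * M.z * g⁻¹)) * g := by group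
      _ = g⁻¹ * ((g * M.z * g⁻¹) * x) * g := by rw [hg, hxu]
      _ = M.z * (g⁻¹ * x * g) := by group
  let x' : centralizer ({M.z} : Set G) := ⟨g⁻¹ * (x : G) * g, hx'z⟩
  have hgx' : g * (x' : G) * g⁻¹ = x := by
    show g * (g⁻¹ * (x : G) * g) * g⁻¹ = x
    group
  obtain ⟨hx'o, hx'f⟩ := fr_six h ht I.ranks (fun x hx h2 => ⟨(good_of_inputs.{u} h I hx h2).simple,
    (good_of_inputs.{u} h I hx h2).nc⟩) hx hfr huz hxu hne hg (x' := x') hgx'
  obtain ⟨d, hdx, hdz⟩ := exists_not_comm h hDat hx hfr hx'o hx'f hg hgx' hne huz hxu.symm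
  exact ⟨⟨d, mem_centralizer_singleton_iff.2 hdx⟩, fun h1 => hdz (congrArg Subtype.val h1)⟩

/-- **`C(x)` is 3-constrained with `O_{3'} = 1`.** -/
theorem constrained_zero [Finite G] [IsSimpleGroup G] (L : Lift M θ) (hc : KChart.Cent M) (I : CoOne)
    (ht : TrNe M.z (KChart.pi hc)) (hp : HasPair M.z (KChart.pi hc)) (hG : Nat.card G = nM)
    {x : centralizer ({M.z} : Set G)} (hx : orderOf x = 3) (hfr : fr (KChart.pi hc x) = 1) :
    centralizer (pCore 3 ↥(centralizer ({(x : G)} : Set G)) : Set ↥(centralizer ({(x : G)} : Set G))) ≤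
      pCore 3 ↥(centralizer ({(x : G)} : Set G)) := by
  have h := KChart.chart L hc
  have hS := I.suz _ (orderOf_pi h hx) hfr
  have H := zer h ht hx hfr hS (exists_root L hc hx hfr)
  have hDat := dat_zero L hc ht hx hfr hS
  have h1 : Nat.card ↥(centralizer ({(x : G)} : Set G)) ∣ nM := hG ▸ Subgroup.card_subgroup_dvd_card _
  exact constrained H hDat h1 (not_central L hc I ht hp hx hfr)

theorem core_bot_zero [Finite G] [IsSimpleGroup G] (L : Lift M θ) (hc : KChart.Cent M) (I : CoOne)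
    (ht : TrNe M.z (KChart.pi hc)) (hp : HasPair M.z (KChart.pi hc)) (hG : Nat.card G = nM)
    {x : centralizer ({M.z} : Set G)} (hx : orderOf x = 3) (hfr : fr (KChart.pi hc x) = 1) :
    pPrimeCore 3 ↥(centralizer ({(x : G)} : Set G)) = ⊥ := by
  have h := KChart.chart L hc
  have hS := I.suz _ (orderOf_pi h hx) hfr
  have H := zer h ht hx hfr hS (exists_root L hc hx hfr)
  have hDat := dat_zero L hc ht hx hfr hS
  have h1 : Nat.card ↥(centralizer ({(x : G)} : Set G)) ∣ nM := hG ▸ Subgroup.card_subgroup_dvd_card _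
  exact core_bot H hDat h1 (not_central L hc I ht hp hx hfr)

end lift

end Cfsg.Agent.H316.VZ.MThree

namespace Cfsg.Agent.H316.VZ.MThree

open Cfsg Cfsg.Agent.MonsterX Cfsg.Agent.MonsterX.InstData Cfsg.Agent.MonsterX.MainPack Cfsg.Agent.MonsterU
open Cfsg.Agent.MonsterP Cfsg.Agent.MonsterN Cfsg.Agent.PreUniq Cfsg.Agent.PreUniqB
open Cfsg.Agent.LThreeMB (KChart.Cent KChart.pi KChart.chart CoOne fr)
open Cfsg.Agent.MonsterX.MainBasic Cfsg.Agent.MonsterX.MainSimple Cfsg.Agent.MonsterX.Model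
open Cfsg.Agent.CpAutBFive
open Subgroup (centralizer mem_centralizer_singleton_iff center mem_inf)

universe u

/-- in the model of the Monster -/
theorem model (hNB : H7.NBp.NB 3 ↥InstData.M.G) : H620.PNorm.VOrdP 3 ↥InstData.M.G := by
  have h3 : Fact (Nat.Prime 3) := ⟨Nat.prime_three⟩
  have hfin : Finite ↥InstData.M.G := MFive.Row.finite_model
  have hs : IsSimpleGroup ↥InstData.M.G := MFive.Row.simple_model
  have ht := (LThreeMB.KPair.trNe KDone.lft MFive.Row.hc (LThreeMBTr.traceNe KDone.lft LThreeMBTr.TensK.tens))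
  have hp := (LThreeMB.KPair.hasPair KDone.lft MFive.Row.hc LThreeB.Row.second LThreeMB.COct.octPair)
  obtain ⟨x₀, u, g, hx₀, hfr₀, -⟩ := id hp
  refine vOrdP_of_oneB hNB (z := (x₀ : ↥InstData.M.G)) (by rw [Subgroup.orderOf_coe, hx₀]) fun M hM => ?_
  exact oneB_of_constrained hM (constrained_zero KDone.lft MFive.Row.hc LThreeMB.CoOneFin.coOne ht hp
    Cfsg.Agent.BpSpor.MThree.card_model hx₀ hfr₀)

/-- **S4555/S4559: the Monster, `p = 3`.** -/
theorem m_three {K : Type u} [Group K] (h : Spor.IsoM K) (hNB : H7.NBp.NB 3 K) : H620.PNorm.VOrdP 3 K := by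
  have h3 : Fact (Nat.Prime 3) := ⟨Nat.prime_three⟩
  have hfin : Finite ↥InstData.M.G := MFive.Row.finite_model
  obtain ⟨e⟩ := h
  obtain ⟨e'⟩ := Cfsg.Agent.MonsterP.Equiv.equiv
  have hK : Finite K := Finite.of_equiv _ (e.trans e').symm.toEquiv
  exact (model (H7.NBp.NB.iso (e.trans e') hNB)).mulEquiv (e.trans e').symm

end Cfsg.Agent.H316.VZ.MThree
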