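import Cfsg.Agent.H316.VZ.Cons
import Cfsg.Agent.H316.VZ.Heir
import Cfsg.Agent.H316.VZ.MThree
import Cfsg.Agent.H316.VZ.MFive
import Cfsg.Agent.H493.NB.Mon
import Cfsg.Agent.S1698
import Cfsg.Agent.S1701

/-!
# S4555/S4559: `Fi24'`, `p = 3`, and `HN`, `p = 5` (helper316)

`Fi24' ≅ C_M(x)/⟨x⟩`, `x` of class 3A, and `HN ≅ C_M(x)/⟨x⟩`, `x` of class 5A; `y` of class 3B (5B) commuting with `x`: the
centralizer of `y` in `M` is of characteristic `p`, so is the centralizer of the image of `y`.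
-/

set_option autoImplicit false
set_option maxRecDepth 100000

namespace Cfsg.Agent.H316.VZ.HeirRows

open Cfsg Subgroup Cfsg.Agent.Lib
open Cfsg.Agent.LThreeMB (fr XX Zx mk_eq_one self KChart.Cent KChart.pi KChart.chart)
open Cfsg.Agent.MonsterU.Ch
open Cfsg.Agent.MonsterU.Lam2 (L2)
open Cfsg.Spor (Co1)

universe u v

/-- **`VOrdP p` for `C(x)/⟨x⟩`.** -/
theorem vOrdP_quot {G : Type u} [Group G] [Finite G] {p : ℕ} [hp : Fact p.Prime] {x y : G} (hx : orderOf x = p)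
    (hy : orderOf y = p) (hxy : y * x = x * y) (hyx : y ∉ zpowers x)
    (hC : centralizer (pCore p ↥(centralizer ({y} : Set G)) : Set ↥(centralizer ({y} : Set G))) ≤
      pCore p ↥(centralizer ({y} : Set G)))
    {F : Type v} [Group F] (e : XX x ≃* F) (hNB : H7.NBp.NB p F) : H620.PNorm.VOrdP p F := by
  have hF : Finite F := Finite.of_equiv _ e.toEquiv
  have hψk : ∀ c : ↥(centralizer ({x} : Set G)), (e.toMonoidHom.comp (QuotientGroup.mk' (Zx x))) c = 1 ↔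
      (c : G) ∈ zpowers x := by
    intro c
    show e (QuotientGroup.mk c) = 1 ↔ _
    rw [e.map_eq_one_iff]
    exact mk_eq_one (x := x) (g := (c : G)) (mem_centralizer_singleton_iff.1 c.2)
  have ho : orderOf ((e.toMonoidHom.comp (QuotientGroup.mk' (Zx x))) ⟨y, mem_centralizer_singleton_iff.2 hxy⟩) = p := by
    refine orderOf_eq_prime ?_ ?_
    · rw [← map_pow]
      have h1 : (⟨y, mem_centralizer_singleton_iff.2 hxy⟩ : ↥(centralizer ({x} : Set G))) ^ p = 1 := by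
        apply Subtype.ext
        show y ^ p = 1
        rw [← hy, pow_orderOf_eq_one]
      rw [h1, map_one]
    · intro h1
      exact hyx ((hψk _).1 h1)
  refine vOrdP_of_oneB hNB ho fun M hM => oneB_of_constrained hM ?_
  exact Heir.heir hx hxy hC _ (e.surjective.comp (QuotientGroup.mk'_surjective _)) hψk

section chart

variable {G : Type u} [Group G] {Q : Subgroup G} {z : G} {eta : G → L2}
  {pi : Subgroup.centralizer ({z} : Set G) →* Co1}

/-- a commuting lift of order `p` -/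
theorem exists_comm_lift (h : Chart Q z eta pi) {p : ℕ} (hp : p.Prime) (ho : Odd p)
    {x : Subgroup.centralizer ({z} : Set G)} (hx : orderOf x = p) {s : Co1} (hs : orderOf s = p)
    (hsx : s * pi x = pi x * s) : ∃ y : Subgroup.centralizer ({z} : Set G), y * x = x * y ∧ orderOf y = p ∧
      pi y = s ^ (p + 1) ^ 2 := by
  have : Fact p.Prime := ⟨hp⟩
  obtain ⟨c, hc, hcs⟩ := MFive.exists_lift h hp ho (by rw [← hx, pow_orderOf_eq_one]) hsx
  have h4 : 4 ∣ (p + 1) ^ 2 := by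
    obtain ⟨m, hm⟩ := ho
    exact ⟨(m + 1) ^ 2, by rw [hm]; ring⟩
  obtain ⟨n, hn⟩ := h4
  have hs1 : s ^ (p + 1) ^ 2 = s := by
    have h1 : s ^ (p + 1) = s := by rw [pow_succ, ← hs, pow_orderOf_eq_one, one_mul]
    rw [pow_two, pow_mul, h1, h1]
  refine ⟨c ^ (p + 1) ^ 2, ((show Commute c x from hc).pow_left _).eq, orderOf_eq_prime ?_ ?_, by rw [map_pow, hcs]⟩
  · have h1 : ((c ^ p : Subgroup.centralizer ({z} : Set G)) : G) ∈ Q := by
      refine (h.pi_eq_one _).1 ?_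
      rw [map_pow, hcs, ← hs, pow_orderOf_eq_one]
    have h2 : (c ^ p) ^ 4 = 1 := Subtype.ext (MFive.pow_four h h1)
    rw [← pow_mul, mul_comm, pow_mul, hn, pow_mul, h2, one_pow]
  · intro h1
    have h2 : pi (c ^ (p + 1) ^ 2) = s := by rw [map_pow, hcs, hs1]
    rw [h1, map_one] at h2
    rw [← h2, orderOf_one] at hs
    exact hp.one_lt.ne hs

/-- `y ∉ ⟨x⟩` from the fixed ranks -/
theorem not_mem_zpowers {x y : Subgroup.centralizer ({z} : Set G)} (hx : fr (pi x) ≠ 1) (hy : fr (pi y) = 1) :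
    (y : G) ∉ zpowers (x : G) := by
  intro h1
  obtain ⟨i, hi⟩ := mem_zpowers_iff.1 h1
  have h2 : pi y = pi x ^ i := by
    rw [← map_zpow]
    congr 1
    exact Subtype.ext hi.symm
  apply hx
  have h3 := (Nat.card_eq_one_iff_unique.1 hy).1
  have h4 : ∀ v : L2, pi x • v = v → pi y • v = v := by
    intro v hv
    rw [h2]
    exact (MulAction.mem_stabilizer_iff).1 (Subgroup.zpow_mem (MulAction.stabilizer Co1 v)
      (MulAction.mem_stabilizer_iff.2 hv) i)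
  refine Nat.card_eq_one_iff_unique.2 ⟨⟨fun a b => Subtype.ext ?_⟩, ⟨⟨0, smul_zero _⟩⟩⟩
  have h5 : (⟨a, h4 a a.2⟩ : {v : L2 // pi y • v = v}) = ⟨b, h4 b b.2⟩ := Subsingleton.elim _ _
  exact congrArg (fun v : {v : L2 // pi y • v = v} => (v : L2)) h5

end chart

end Cfsg.Agent.H316.VZ.HeirRows

namespace Cfsg.Agent.H316.VZ.HeirRows

open Cfsg Cfsg.Agent.MonsterX Cfsg.Agent.MonsterX.InstData Cfsg.Agent.MonsterX.MainPack Cfsg.Agent.MonsterU
open Cfsg.Agent.MonsterP Cfsg.Agent.MonsterN Cfsg.Agent.PreUniq Cfsg.Agent.PreUniqB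
open Cfsg.Agent.LThreeMB (KChart.Cent KChart.pi KChart.chart CoOne fr XX)
open Cfsg.Agent.MonsterX.MainBasic Cfsg.Agent.MonsterX.MainSimple Cfsg.Agent.MonsterX.Model
open Cfsg.Spor (Co1)
open Subgroup (centralizer mem_centralizer_singleton_iff)

universe u

/-- the order of the image in `Co1` -/
theorem orderOf_mk {g : Co0} {p : ℕ} [Fact p.Prime] (hg : g ^ p = 1)
    (hf : fr (QuotientGroup.mk g : Co1) ≠ 2 ^ 24) : orderOf (QuotientGroup.mk g : Co1) = p := by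
  refine orderOf_eq_prime ?_ ?_
  · rw [← QuotientGroup.mk_pow, hg]
    rfl
  · intro h
    apply hf
    rw [h, fr, ← Cfsg.Agent.MonsterU.Lam2.card_L2]
    exact Nat.card_congr (Equiv.subtypeUnivEquiv fun v => one_smul _ v)

/-- a conjugate -/
theorem exists_conj {s a b : Co1} {g : Co1} (hg : g * s * g⁻¹ = a) (hab : b * a = a * b) :
    (g⁻¹ * b * g⁻¹⁻¹) * s = s * (g⁻¹ * b * g⁻¹⁻¹) := by
  have h1 : s = g⁻¹ * a * g := by rw [← hg]; group
  rw [h1]
  calc g⁻¹ * b * g⁻¹⁻¹ * (g⁻¹ * a * g) = g⁻¹ * (b * a) * g := by group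
    _ = g⁻¹ * (a * b) * g := by rw [hab]
    _ = _ := by group

/-- **S4555/S4559: `Fi24'`, `p = 3`**, in the model. -/
theorem fi24_model (hNB : H7.NBp.NB 3 Spor.Fi24') : H620.PNorm.VOrdP 3 Spor.Fi24' := by
  have hp3 : Fact (Nat.Prime 3) := ⟨Nat.prime_three⟩
  have hfin : Finite ↥InstData.M.G := MFive.Row.finite_model
  have hsim : IsSimpleGroup ↥InstData.M.G := MFive.Row.simple_model
  have I : CoOne := LThreeMB.CoOneFin.coOne
  have h := KChart.chart KDone.lft MFive.Row.hc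
  obtain ⟨s, hs, hfs, ht, h4⟩ := I.psu
  obtain ⟨g, hg⟩ := LThreeCo1.Ranks.conj_rep LThreeCo1.Ranks.uniq12 hs hfs
  obtain ⟨x, hx, rfl⟩ := LThreeMB.KPair.exists_order_three h hs
  -- `s₀` of fixed rank 0 commuting with `s`
  obtain ⟨s₀, hs₀⟩ : ∃ s₀ : Co1, s₀ = g⁻¹ * QuotientGroup.mk LThreeCo1.Class.c0 * g⁻¹⁻¹ := ⟨_, rfl⟩
  have hf₀ : fr s₀ = 1 := by rw [hs₀, LThreeMB.fr_conj, LThreeCo1.Ranks.fr_c0]
  have ho₀ : orderOf s₀ = 3 := by
    rw [hs₀]
    refine (MulEquiv.orderOf_eq (MulAut.conj g⁻¹) _).trans (orderOf_mk (p := 3) ?_ ?_)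
    · rw [← LThreeCo1.Class.order_c0, pow_orderOf_eq_one]
    · rw [LThreeCo1.Ranks.fr_c0]
      norm_num
  have hcm : s₀ * KChart.pi MFive.Row.hc x = KChart.pi MFive.Row.hc x * s₀ := by
    rw [hs₀]
    refine exists_conj hg ?_
    have h1 : LThreeCo1.Class.c0 * LThreeCo1.Class.c12 = LThreeCo1.Class.c12 * LThreeCo1.Class.c0 :=
      LThreeCo1.Class.hA.ph_comm _ _
    rw [← QuotientGroup.mk_mul, ← QuotientGroup.mk_mul, h1]
  obtain ⟨y, hyx, hy, hys⟩ := exists_comm_lift h Nat.prime_three (by decide) hx ho₀ hcm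
  have hs1 : s₀ ^ (3 + 1) ^ 2 = s₀ := by
    have h1 : s₀ ^ (3 + 1) = s₀ := by rw [pow_succ, ← ho₀, pow_orderOf_eq_one, one_mul]
    rw [pow_two, pow_mul, h1, h1]
  rw [hs1] at hys
  have hfy : fr (KChart.pi MFive.Row.hc y) = 1 := by rw [hys, hf₀]
  obtain ⟨e⟩ := LThreeMB.iso_fi24 h hx hfs (by rw [hfs]; exact I.twelve) ht h4
  have htr := (LThreeMB.KPair.trNe KDone.lft MFive.Row.hc (LThreeMBTr.traceNe KDone.lft LThreeMBTr.TensK.tens))
  have hpr := (LThreeMB.KPair.hasPair KDone.lft MFive.Row.hc LThreeB.Row.second LThreeMB.COct.octPair)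
  have hC := MThree.constrained_zero KDone.lft MFive.Row.hc LThreeMB.CoOneFin.coOne htr hpr
    Cfsg.Agent.BpSpor.MThree.card_model hy hfy
  exact vOrdP_quot (x := (x : ↥InstData.M.G)) (y := (y : ↥InstData.M.G)) (by rw [Subgroup.orderOf_coe, hx])
    (by rw [Subgroup.orderOf_coe, hy]) (congrArg Subtype.val hyx)
    (not_mem_zpowers (by rw [hfs]; norm_num) hfy) hC e hNB

/-- **S4555/S4559: `Fi24'`, `p = 3`.** -/
theorem fi24_three {K : Type u} [Group K] (h : Spor.IsoFi24' K) (hNB : H7.NBp.NB 3 K) : H620.PNorm.VOrdP 3 K := by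
  have h3 : Fact (Nat.Prime 3) := ⟨Nat.prime_three⟩
  have hF : Finite Spor.Fi24' := Nat.finite_of_card_ne_zero (by rw [Cfsg.Agent.S1698.result.2]; norm_num)
  obtain ⟨e⟩ := h
  have hK : Finite K := Finite.of_equiv _ e.symm.toEquiv
  exact (fi24_model (H7.NBp.NB.iso e hNB)).mulEquiv e.symm

/-- **S4555/S4559: `HN`, `p = 5`**, in the model. -/
theorem hn_model (hNB : H7.NBp.NB 5 Spor.HN) : H620.PNorm.VOrdP 5 Spor.HN := by
  have hp5 : Fact (Nat.Prime 5) := ⟨Nat.prime_five⟩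
  have hfin : Finite ↥InstData.M.G := MFive.Row.finite_model
  have hsim : IsSimpleGroup ↥InstData.M.G := MFive.Row.simple_model
  have hJ : CpAutBFive.Closed.HJ := fun _ hs h => Cfsg.Agent.MFive.JTwo.isoJ2 hs h
  have h := KChart.chart KDone.lft Cfsg.Agent.MFive.Row.hc
  obtain ⟨y, k, hy, hfy, hk, hkk⟩ := BpSpor.M5.exists_k BpSpor.M5.hA
  have hJy := hJ _ (Cfsg.Agent.MFive.orderOf_pi h Nat.prime_five (by decide) hy) hfy
  have hD := BpSpor.M5.dvd_zero h BpSpor.M5.trNe (CpAutBFive.Closed.coFive hJ) CpAutBFive.Closed.hnEight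
    BpSpor.M5.hasPair (CoFive.Ranks.wclassOf _) CoFive.Sylow.exists_four hy hfy
  have hC := MFive.constrained h BpSpor.M5.trNe BpSpor.M5.hasPair (CoFive.Ranks.wclassOf _) hy hfy hJy hD hk hkk
  -- `pi y` is conjugate to `r0`
  have h0 : (CoFive.Class.r0 : Co0) ^ 5 = 1 := by rw [CoFive.Class.r0_eq]; exact CoFive.Class.hyp.five _
  have h8 : (CoFive.Class.r8 : Co0) ^ 5 = 1 := by rw [CoFive.Class.r8_eq]; exact CoFive.Class.hyp.five _
  have hc08 : CoFive.Class.r8 * CoFive.Class.r0 = CoFive.Class.r0 * CoFive.Class.r8 := by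
    rw [CoFive.Class.r0_eq, CoFive.Class.r8_eq]
    exact CoFive.Class.hyp.ph_comm _ _
  have ho0 : orderOf (QuotientGroup.mk CoFive.Class.r0 : Co1) = 5 := orderOf_mk h0 (by
    rw [CoFive.Ranks.fr_r0]; norm_num)
  have ho8 : orderOf (QuotientGroup.mk CoFive.Class.r8 : Co1) = 5 := orderOf_mk h8 (by
    rw [CoFive.Ranks.fr_r8]; norm_num)
  obtain ⟨g, hg⟩ := isConj_iff.1 (CoFive.Ranks.isConj_of_fr (Cfsg.Agent.MFive.orderOf_pi h Nat.prime_five (by decide) hy)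
    ho0 (by rw [hfy, CoFive.Ranks.fr_r0]))
  obtain ⟨s, hs⟩ : ∃ s : Co1, s = g⁻¹ * QuotientGroup.mk CoFive.Class.r8 * g⁻¹⁻¹ := ⟨_, rfl⟩
  have hfs : fr s = 2 ^ 8 := by rw [hs, LThreeMB.fr_conj, CoFive.Ranks.fr_r8]
  have hos : orderOf s = 5 := by rw [hs, ← ho8]; exact MulEquiv.orderOf_eq (MulAut.conj g⁻¹) _
  have hcm : s * KChart.pi MFive.Row.hc y = KChart.pi MFive.Row.hc y * s := by
    rw [hs]
    refine exists_conj hg ?_
    rw [← QuotientGroup.mk_mul, ← QuotientGroup.mk_mul, hc08]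
  obtain ⟨x, hxy, hx, hxs⟩ := exists_comm_lift h Nat.prime_five (by decide) hy hos hcm
  have hs1 : s ^ (5 + 1) ^ 2 = s := by
    have h1 : s ^ (5 + 1) = s := by rw [pow_succ, ← hos, pow_orderOf_eq_one, one_mul]
    rw [pow_two, pow_mul, h1, h1]
  rw [hs1] at hxs
  have hfx : fr (KChart.pi MFive.Row.hc x) = 2 ^ 8 := by rw [hxs, hfs]
  obtain ⟨e⟩ := CpAutBFive.Closed.hnEight x hx hfx
  exact vOrdP_quot (x := (x : ↥InstData.M.G)) (y := (y : ↥InstData.M.G)) (by rw [Subgroup.orderOf_coe, hx])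
    (by rw [Subgroup.orderOf_coe, hy]) (congrArg Subtype.val hxy.symm)
    (not_mem_zpowers (by rw [hfx]; norm_num) hfy) hC e hNB

/-- **S4555/S4559: `HN`, `p = 5`.** -/
theorem hn_five {K : Type u} [Group K] (h : Spor.IsoHN K) (hNB : H7.NBp.NB 5 K) : H620.PNorm.VOrdP 5 K := by
  have h5 : Fact (Nat.Prime 5) := ⟨Nat.prime_five⟩
  have hF : Finite Spor.HN := Nat.finite_of_card_ne_zero (by rw [Cfsg.Agent.S1701.result.2]; norm_num)
  obtain ⟨e⟩ := h
  have hK : Finite K := Finite.of_equiv _ e.symm.toEquiv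
  exact (hn_model (H7.NBp.NB.iso e hNB)).mulEquiv e.symm

end Cfsg.Agent.H316.VZ.HeirRows
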