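import Cfsg.Agent.H316.VZ.Cons
import Cfsg.Agent.BpSpor.BThreeZero

/-!
# One `p`-block from an isolated involution (helper316)

* `constrained_of_radical` : `O_{p'}(D) = 1` and a normal `p`-subgroup with solvable centralizer: `C_D(O_p(D)) ≤ O_p(D)`;
* `constrained_of_isolated` : `z` an isolated involution of `D`, `φ : C_D(z) → X` onto a nonabelian simple group with
  solvable kernel, normal subgroups of `C_D(z)` outside the kernel contain `z`, elements of normal subgroups of odd order
  commuting with `z` are central, `z` not central, `O_{p'}(D) = 1`: the same conclusion;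
* `oneB_of_constrained`.
-/

set_option autoImplicit false

namespace Cfsg.Agent.H316.VZ

open Subgroup Cfsg Cfsg.Agent.Lib

universe u v

variable {D : Type u} [Group D] [Finite D]

/-- A solvable normal subgroup `C` centralizing `O_p(D)` lies in `O_p(D)` if `O_{p'}(D) = 1`. -/
theorem le_pCore_of_solvable {p : ℕ} [Fact p.Prime] (hcore : pPrimeCore p D = ⊥) {C : Subgroup D} [hC : C.Normal]
    (hs : Group.IsSolvable C) (hcen : C ≤ centralizer (pCore p D : Set D)) : C ≤ pCore p D := by
  have h1 : pPrimeCore p C = ⊥ := by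
    have h2 : (pPrimeCore p C).map C.subtype ≤ pPrimeCore p D := by
      have hch : (pPrimeCore p C).Characteristic := Cores.pPrimeCore_characteristic p
      refine Cores.le_pPrimeCore inferInstance ?_
      rw [card_map_of_injective C.subtype_injective]
      exact Cores.pPrimeCore_coprime p
    rw [hcore, le_bot_iff] at h2
    exact (map_eq_bot_iff_of_injective _ C.subtype_injective).1 h2
  have hHH := HallHigman.centralizer_pCore_le_of_solvable (G := C) p h1
  have h3 : (pCore p C).map C.subtype ≤ pCore p D := by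
    have hch : (pCore p C).Characteristic := Cores.pCore_characteristic p
    exact Cores.le_pCore inferInstance ((Cores.pCore_isPGroup p).map _)
  intro c hc
  have h4 : (⟨c, hc⟩ : C) ∈ pCore p C := by
    apply hHH
    rw [mem_centralizer_iff]
    intro a ha
    exact Subtype.ext (mem_centralizer_iff.1 (hcen hc) a (h3 ⟨a, ha, rfl⟩))
  exact h3 ⟨_, h4, rfl⟩

theorem constrained_of_radical {p : ℕ} [Fact p.Prime] (hcore : pPrimeCore p D = ⊥) {S : Subgroup D} [hS : S.Normal]
    (hp : IsPGroup p S) (hs : Group.IsSolvable (centralizer (S : Set D))) :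
    centralizer (pCore p D : Set D) ≤ pCore p D := by
  have h1 : S ≤ pCore p D := Cores.le_pCore hS hp
  have h2 : centralizer (pCore p D : Set D) ≤ centralizer (S : Set D) := centralizer_le h1
  have hn : (pCore p D).Normal := Cores.pCore_normal p
  have h3 : Group.IsSolvable (centralizer (pCore p D : Set D)) :=
    Group.isSolvable_of_isSolvable_injective (inclusion_injective h2)
  exact le_pCore_of_solvable hcore h3 le_rfl

theorem oneB_of_constrained {p : ℕ} {M : Ideal AlgInt} (hM : IsPModular p M)
    (h : centralizer (pCore p D : Set D) ≤ pCore p D) : H7.NBp.OneB M D := by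
  have : Fact p.Prime := ⟨hM.1⟩
  have hn : (pCore p D).Normal := Cores.pCore_normal p
  exact H104.EB.COne.oneBlock_of_constrained hM (pCore p D) (Cores.pCore_isPGroup p) h

/-- **Isolated involutions.** -/
theorem constrained_of_isolated {p : ℕ} [hp : Fact p.Prime] (hp2 : p ≠ 2) {z : D} {X : Type v} [Group X]
    {φ : ↥(centralizer ({z} : Set D)) →* X} (two : orderOf z = 2)
    (iso : ∀ d : D, (d * z * d⁻¹) * z = z * (d * z * d⁻¹) → d * z * d⁻¹ = z)
    (surj : Function.Surjective φ) (simple : IsSimpleGroup X) (ev : Even (Nat.card X))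
    (ker : Group.IsSolvable φ.ker)
    (cov : ∀ K : Subgroup ↥(centralizer ({z} : Set D)), K.Normal → (∃ w ∈ K, φ w ≠ 1) →
      ⟨z, mem_centralizer_singleton_iff.2 rfl⟩ ∈ K)
    (oc : ∀ N : Subgroup D, N.Normal → Odd (Nat.card N) → ∀ n ∈ N, n * z = z * n → n ∈ center D)
    (core : pPrimeCore p D = ⊥) (hne : ∃ d : D, d * z ≠ z * d) :
    centralizer (pCore p D : Set D) ≤ pCore p D := by
  have hn : (pCore p D).Normal := Cores.pCore_normal p
  obtain ⟨N, F, hN, hNo, hsup, hNF, hFφ, hFs, hFk⟩ := BpSpor.MThree.exists_hom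
    (fun K _ _ hK => Cfsg.Agent.S0205.result hK) two iso simple ev φ surj ker
  have hzz : z * z = 1 := by rw [← pow_two, ← two, pow_orderOf_eq_one]
  by_cases hle : centralizer (pCore p D : Set D) ≤ F.ker
  · have h3 : Group.IsSolvable (centralizer (pCore p D : Set D)) :=
      Group.isSolvable_of_isSolvable_injective (inclusion_injective hle)
    exact le_pCore_of_solvable core h3 le_rfl
  exfalso
  -- `C(O_p(D))` covers `X`
  set C : Subgroup D := centralizer (pCore p D : Set D) with hCdef
  have hC : C.Normal := inferInstance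
  let K0 : Subgroup ↥(centralizer ({z} : Set D)) :=
    (BpSpor.BThree.cap z N C hN).subgroupOf (centralizer ({z} : Set D))
  have hK0 : K0.Normal := by
    constructor
    intro k hk c
    rw [mem_subgroupOf, BpSpor.BThree.mem_cap] at hk ⊢
    obtain ⟨h1, n, hn', h2⟩ := hk
    refine ⟨(c * k * c⁻¹).2, (c : D) * n * (c : D)⁻¹, hN.conj_mem n hn' c, ?_⟩
    have h3 := hC.conj_mem _ h2 c
    have e : (c : D) * (n * (k : D)) * (c : D)⁻¹ =
        (c : D) * n * (c : D)⁻¹ * ((c * k * c⁻¹ : ↥(centralizer ({z} : Set D))) : D) := by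
      rw [Subgroup.coe_mul, Subgroup.coe_mul, Subgroup.coe_inv]
      group
    rwa [e] at h3
  obtain ⟨c, hcC, hc⟩ : ∃ c ∈ C, F c ≠ 1 := by
    by_contra hcon
    push Not at hcon
    exact hle fun c hc => MonoidHom.mem_ker.2 (hcon c hc)
  have hz0 : z ∈ BpSpor.BThree.cap z N C hN := by
    have h1 : c ∈ N ⊔ centralizer ({z} : Set D) := by rw [hsup]; trivial
    obtain ⟨n, hn', b, hb, hnb⟩ := mem_sup_of_normal_left.1 h1
    have h2 := cov K0 hK0 ⟨⟨b, hb⟩, ?_, ?_⟩
    · exact mem_subgroupOf.1 h2
    · rw [mem_subgroupOf, BpSpor.BThree.mem_cap]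
      exact ⟨hb, n, hn', by rw [hnb]; exact hcC⟩
    · rw [← hFφ]
      intro h3
      apply hc
      rw [← hnb, map_mul, MonoidHom.mem_ker.1 (hNF hn'), one_mul]
      exact h3
  obtain ⟨-, n, hn', hnz⟩ := BpSpor.BThree.mem_cap.1 hz0
  -- `z` centralizes `O_p(D)`
  have hzE : ∀ e ∈ pCore p D, e * z = z * e := by
    intro e he
    refine BpSpor.BThree.act_odd (A := pCore p D) (u := z) (n := n⁻¹) hzz ?_ (fun a ha => hn.conj_mem a ha _) ?_ he
    · rw [orderOf_inv]
      refine hNo.of_dvd_nat ?_
      rw [← Subgroup.orderOf_mk n hn']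
      exact orderOf_dvd_natCard _
    · intro a ha
      have h1 := mem_centralizer_iff.1 hnz _ (hn.conj_mem a ha n⁻¹ : n⁻¹ * a * n⁻¹⁻¹ ∈ (pCore p D : Set D))
      -- `a' (n z) = (n z) a'`
      have h2 := mem_centralizer_iff.1 hnz _ ha
      calc z * a * z⁻¹ = n⁻¹ * ((n * z) * a) * z⁻¹ := by group
        _ = n⁻¹ * (a * (n * z)) * z⁻¹ := by rw [← h2]
        _ = n⁻¹ * a * n⁻¹⁻¹ := by group
  -- `N` is centralized by `z`
  have hNs : Group.IsSolvable ↥N := Cfsg.Agent.S0205.result hNo
  have hcoreN : pPrimeCore p N = ⊥ := by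
    have h2 : (pPrimeCore p N).map N.subtype ≤ pPrimeCore p D := by
      have hch : (pPrimeCore p N).Characteristic := Cores.pPrimeCore_characteristic p
      refine Cores.le_pPrimeCore inferInstance ?_
      rw [card_map_of_injective N.subtype_injective]
      exact Cores.pPrimeCore_coprime p
    rw [core, le_bot_iff] at h2
    exact (map_eq_bot_iff_of_injective _ N.subtype_injective).1 h2
  have hHH := HallHigman.centralizer_pCore_le_of_solvable (G := ↥N) p hcoreN
  have hCc : (pCore p ↥N).Characteristic := Cores.pCore_characteristic p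
  have hAE : (pCore p ↥N).map N.subtype ≤ pCore p D :=
    Cores.le_pCore inferInstance ((Cores.pCore_isPGroup p).map _)
  have hAc : ∀ a ∈ (pCore p ↥N).map N.subtype, a ∈ center D := fun a ha =>
    oc N hN hNo a (map_subtype_le _ ha) (hzE a (hAE ha))
  have hNz : ∀ n ∈ N, n * z = z * n := by
    intro n hn
    have h1 : (⟨n, hn⟩ : ↥N) ∈ pCore p ↥N := by
      apply hHH
      rw [mem_centralizer_iff]
      intro a ha
      exact Subtype.ext ((mem_center_iff.1 (hAc a ⟨a, ha, rfl⟩)) n).symm
    exact hzE n (hAE ⟨_, h1, rfl⟩)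
  obtain ⟨d, hd⟩ := hne
  apply hd
  have hg : d ∈ N ⊔ centralizer ({z} : Set D) := by rw [hsup]; trivial
  obtain ⟨n, hn, c, hc, rfl⟩ := mem_sup_of_normal_left.1 hg
  have h1 : Commute n z := hNz n hn
  have h2 : Commute c z := mem_centralizer_singleton_iff.1 hc
  exact (h1.mul_left h2).eq

end Cfsg.Agent.H316.VZ
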