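import Cfsg.Agent.H316.VZ.HeInv
import Cfsg.Agent.H316.VZ.Norm
import Cfsg.Agent.H33.RD
import Cfsg.Agent.H794.MonSeven
import Cfsg.Agent.H813.CoSevenMain
import Cfsg.Agent.H546.MFiveFull
import Cfsg.Agent.BpSpor.MFiveTop
import Cfsg.Agent.H620.PNorm

/-!
# S4555/S4559: the Monster, `p = 7` (helper316)

* `nz_inv` : some involution `u` has a non-nilpotent class sum modulo 7 (`Q` of order 49, `C(Q) / Q` inside of
  `C_He(y) / ⟨y⟩`, `|C_He(y)| = 1176`; `H33.exists_RD`);
* `x` of order 7 and fixed rank 0, `D = C(x)`: no involution centralises the normal 7-subgroup `S` of `D`;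
* `m_seven`.
-/

set_option autoImplicit false
set_option maxRecDepth 100000

namespace Cfsg.Agent.H316.VZ.MSeven

open Cfsg Subgroup

universe u v

/-! ### the involution -/

section nz

open Cfsg.Agent.H492.IMHeDat Cfsg.Agent.H492.IMHe
open Cfsg.Agent.SporadicB.HePerm (act wd)
open Cfsg.Agent.H794.MonSevenLoc (isPGroup_zpowers sq_dvd_of_notMem card_eq_pow)

/-- an involution commuting with `c` modulo a central subgroup of exponent 7 commutes with `c` -/
theorem comm_of_ker {C : Type*} [Group C] {a c k : C} (ha : a * a = 1) (hk : k ^ 7 = 1) (hkc : ∀ g : C, g * k = k * g)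
    (h : a * c * a⁻¹ = c * k) : a * c = c * a := by
  have h1 : a * (a * c * a⁻¹) * a⁻¹ = c := by
    calc a * (a * c * a⁻¹) * a⁻¹ = (a * a) * c * (a * a)⁻¹ := by group
      _ = c := by rw [ha]; group
  rw [h] at h1
  have h2 : c * k * k = c := by
    calc c * k * k = (a * c * a⁻¹) * k := by rw [h]
      _ = a * (c * k) * a⁻¹ := by rw [mul_assoc, hkc a⁻¹]; group
      _ = c := h1
  have h3 : k * k = 1 := by
    have : c * (k * k) = c * 1 := by rw [← mul_assoc, h2, mul_one]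
    exact mul_left_cancel this
  have h4 : k = 1 := by
    have h5 : k ^ 2 = 1 := by rw [pow_two, h3]
    rwa [show 7 = 2 * 3 + 1 from rfl, pow_succ, pow_mul, h5, one_pow, one_mul] at hk
  rw [h4, mul_one, mul_inv_eq_iff_eq_mul] at h
  exact h

theorem nz_of_he {G : Type u} [Group G] [Finite G] {M : Ideal AlgInt} (hM : IsPModular 7 M) {r : G} (hr : orderOf r = 7)
    (ρ : ↥(centralizer ({r} : Set G)) →* Spor.He) (hρ : Function.Surjective ρ)
    (hker : ∀ c : ↥(centralizer ({r} : Set G)), ρ c = 1 ↔ (c : G) ∈ zpowers r)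
    (hinv : ∀ u : G, orderOf u = 2 → ¬ 7 ^ (2 + 1) ∣ Nat.card ↥(centralizer ({u} : Set G))) :
    ∃ u : G, orderOf u = 2 ∧ NZ M u := by
  have h7 : Fact (Nat.Prime 7) := ⟨by norm_num⟩
  have hrC : r ∈ centralizer ({r} : Set G) := mem_centralizer_singleton_iff.2 rfl
  have hkc : ∀ {k : ↥(centralizer ({r} : Set G))}, ρ k = 1 → k ^ 7 = 1 ∧ ∀ g, g * k = k * g := by
    intro k hk
    obtain ⟨i, hi⟩ := mem_zpowers_iff.1 ((hker k).1 hk)
    constructor
    · apply Subtype.ext
      show (k : G) ^ 7 = 1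
      rw [← hi, ← zpow_natCast, ← zpow_mul, mul_comm, zpow_mul, zpow_natCast, ← hr, pow_orderOf_eq_one, one_zpow]
    · intro g
      apply Subtype.ext
      show (g : G) * k = k * g
      rw [← hi]
      exact (show Commute (g : G) r from mem_centralizer_singleton_iff.1 g.2).zpow_right i
  obtain ⟨y, hy⟩ := hρ (wd XB7)
  obtain ⟨A, hAc, hAA, hA1⟩ := HeInv.exists_inv
  obtain ⟨a₀, ha₀⟩ := hρ A
  -- the involution
  have ha : ρ (a₀ ^ 7) = A := by
    rw [map_pow, ha₀]
    have h3 : A ^ 2 = 1 := by rw [pow_two, hAA]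
    rw [show 7 = 2 * 3 + 1 from rfl, pow_succ, pow_mul, h3, one_pow, one_mul]
  obtain ⟨a, rfl⟩ : ∃ a, a = a₀ ^ 7 := ⟨_, rfl⟩
  have haa : a₀ ^ 7 * a₀ ^ 7 = 1 := by
    have h1 : ρ (a₀ * a₀) = 1 := by rw [map_mul, ha₀, hAA]
    rw [← (Commute.refl a₀).mul_pow]
    exact (hkc h1).1
  set a := a₀ ^ 7 with hadef
  have ha1 : a ≠ 1 := by
    intro h
    rw [h, map_one] at ha
    exact hA1 ha.symm
  set u : G := (a : G) with hu
  have huo : orderOf u = 2 := by
    refine orderOf_eq_prime ?_ fun h => ha1 (Subtype.ext h)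
    rw [pow_two]
    exact congrArg Subtype.val haa
  -- the subgroup `Q`
  set Q : Subgroup G := ((zpowers (wd XB7)).comap ρ).map (centralizer ({r} : Set G)).subtype with hQ
  have hrQ : r ∈ Q := ⟨⟨r, hrC⟩, by
    rw [SetLike.mem_coe, mem_comap, (hker ⟨r, hrC⟩).2 (mem_zpowers r)]
    exact one_mem _, rfl⟩
  have hyQ : (y : G) ∈ Q := ⟨y, by
    rw [SetLike.mem_coe, mem_comap, hy]
    exact mem_zpowers _, rfl⟩
  have hker7 : IsPGroup 7 ↥ρ.ker := by
    intro k
    refine ⟨1, Subtype.ext ?_⟩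
    rw [pow_one]
    exact (hkc (MonoidHom.mem_ker.1 k.2)).1
  have hQP : IsPGroup 7 ↥Q := by
    have h1 : IsPGroup 7 ↥(zpowers (wd XB7)) := isPGroup_zpowers (k := 1) (by
      rw [pow_one]
      have h2 : orderOf (wd XB7) = 7 := o7
      rw [← h2, pow_orderOf_eq_one])
    exact (h1.comap_of_ker_isPGroup ρ hker7).map _
  have hyr : (y : G) ∉ zpowers r := by
    intro h
    have h1 := (hker y).2 h
    rw [hy] at h1
    have h2 : orderOf (wd XB7) = 7 := o7
    rw [h1, orderOf_one] at h2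
    norm_num at h2
  have hsq : 7 ^ 2 ∣ Nat.card ↥Q := sq_dvd_of_notMem hQP hr hrQ hyQ hyr
  have hQu : Q ≤ centralizer ({u} : Set G) := by
    rintro _ ⟨c, hc, rfl⟩
    rw [mem_centralizer_singleton_iff]
    obtain ⟨i, hi⟩ := mem_zpowers_iff.1 (mem_comap.1 hc)
    have h1 : ρ (c⁻¹ * (a * c * a⁻¹)) = 1 := by
      rw [map_mul, map_mul, map_mul, map_inv, map_inv, ha, ← hi]
      have h2 : A * wd XB7 ^ i = wd XB7 ^ i * A := (show Commute A (wd XB7) from hAc).zpow_right i
      rw [h2]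
      group
    have h3 := comm_of_ker haa (hkc h1).1 (hkc h1).2 (c := c) (by group)
    exact (congrArg Subtype.val h3).symm
  have hcQ : Nat.card ↥Q = 7 ^ 2 := card_eq_pow hQu hQP hsq (hinv u huo)
  have hfac : (Nat.card ↥(centralizer ({u} : Set G))).factorization 7 = 2 := by
    have h0 : Nat.card ↥(centralizer ({u} : Set G)) ≠ 0 := Nat.card_pos.ne'
    have h1 := (h7.out.pow_dvd_iff_le_factorization h0).1 (hcQ ▸ card_dvd_of_le hQu)
    have h2 : ¬ 3 ≤ (Nat.card ↥(centralizer ({u} : Set G))).factorization 7 := fun h =>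
      hinv u huo ((h7.out.pow_dvd_iff_le_factorization h0).2 h)
    omega
  refine ⟨u, huo, H33.exists_RD hM Q hQP u ?_ hQu (by rw [hcQ, hfac]) ?_⟩
  · rw [huo]; norm_num
  · intro s t hs ht hus hut hst
    have hsr : s * r = r * s := (mem_centralizer_iff.1 hs r hrQ).symm
    have htr : t * r = r * t := (mem_centralizer_iff.1 ht r hrQ).symm
    have hsq' : ∀ {w : G}, IsConj u w → w * w = 1 := by
      intro w hw
      obtain ⟨c, rfl⟩ := isConj_iff.1 hw
      have h1 : u * u = 1 := congrArg Subtype.val haa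
      calc c * u * c⁻¹ * (c * u * c⁻¹) = c * (u * u) * c⁻¹ := by group
        _ = 1 := by rw [h1]; group
    have hss := hsq' hus
    have htt := hsq' hut
    obtain ⟨k, hk⟩ := hst
    set s' : ↥(centralizer ({r} : Set G)) := ⟨s, mem_centralizer_singleton_iff.2 hsr⟩
    set t' : ↥(centralizer ({r} : Set G)) := ⟨t, mem_centralizer_singleton_iff.2 htr⟩
    have hsy : s' * y = y * s' := Subtype.ext (mem_centralizer_iff.1 hs y hyQ).symm
    have hty : t' * y = y * t' := Subtype.ext (mem_centralizer_iff.1 ht y hyQ).symm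
    have hsY : ρ s' * wd XB7 = wd XB7 * ρ s' := by rw [← hy, ← map_mul, hsy, map_mul]
    have htY : ρ t' * wd XB7 = wd XB7 * ρ t' := by rw [← hy, ← map_mul, hty, map_mul]
    have hti : t'⁻¹ = t' := inv_eq_of_mul_eq_one_left (Subtype.ext htt)
    have hsi : s'⁻¹ = s' := inv_eq_of_mul_eq_one_left (Subtype.ext hss)
    have hss' : s' * s' = 1 := Subtype.ext hss
    have htt' : t' * t' = 1 := Subtype.ext htt
    have hinv' : s' * (s' * t'⁻¹) * s'⁻¹ = (s' * t'⁻¹)⁻¹ := by
      rw [hti, hsi]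
      calc s' * (s' * t') * s' = (s' * s') * t' * s' := by group
        _ = t' * s' := by rw [hss', one_mul]
        _ = t'⁻¹ * s'⁻¹ := by rw [hti, hsi]
        _ = (s' * t')⁻¹ := by group
    have hpow : (s' * t'⁻¹) ^ 7 ^ k = 1 := Subtype.ext (by
      show (s * t⁻¹) ^ 7 ^ k = 1
      rw [← hk, pow_orderOf_eq_one])
    have hmem : ρ (s' * t'⁻¹) ∈ zpowers (wd XB7) := by
      refine HeInv.main hsY (H := ρ (s' * t'⁻¹)) ?_ (by rw [← map_mul, hss', map_one]) ?_ (k := k) ?_
      · rw [map_mul, map_inv]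
        exact (show Commute (ρ s') (wd XB7) from hsY).mul_left (show Commute (ρ t') (wd XB7) from htY).inv_left
      · rw [← map_inv, ← map_mul, ← map_mul, hinv', map_inv]
      · rw [← map_pow, hpow, map_one]
    have hQm : s * t⁻¹ ∈ Q := ⟨s' * t'⁻¹, hmem, rfl⟩
    have h1 : (s * t⁻¹) * s = s * (s * t⁻¹) := mem_centralizer_iff.1 hs _ hQm
    have h2 : s * (s * t⁻¹) * s⁻¹ = (s * t⁻¹)⁻¹ := congrArg Subtype.val hinv'
    rw [← h1, mul_inv_cancel_right] at h2
    have h3 : (s * t⁻¹) ^ 2 = 1 := by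
      rw [pow_two]
      nth_rewrite 2 [h2]
      exact mul_inv_cancel _
    have h4 : (s * t⁻¹) ^ Nat.gcd 2 (7 ^ k) = 1 := pow_gcd_eq_one.2 ⟨h3, congrArg Subtype.val hpow⟩
    have h5 : Nat.gcd 2 (7 ^ k) = 1 := (Nat.Coprime.pow_right k (by decide) : Nat.Coprime 2 (7 ^ k))
    rw [h5, pow_one] at h4
    exact mul_inv_eq_one.1 h4

end nz

/-! ### `C_{Co1}(x) / ⟨x⟩ ≅ A₇` -/

section co1

open Cfsg.Agent.H813.CoSevenMain
open Cfsg.Agent.LThreeMB (fr XX Zx self)

theorem xx_pp : Nonempty (XX pp ≃* ↥BB) := by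
  have hfin : Finite Spor.Co1 := Nat.finite_of_card_ne_zero (by rw [Cfsg.Agent.S0399.result.2]; norm_num)
  obtain ⟨e⟩ := cent_equiv BB_le BB_center (by
    rw [order_pp, card_BB]
    exact card_cent_pp)
  let g : ↥(centralizer ({pp} : Set Spor.Co1)) →* ↥BB := (MonoidHom.snd _ _).comp e.toMonoidHom
  have hg : Function.Surjective g := fun b => ⟨e.symm (1, b), by
    show (e (e.symm (1, b))).2 = b
    rw [e.apply_symm_apply]⟩
  have hs : ∀ c : ↥(centralizer ({pp} : Set Spor.Co1)), c * self pp = self pp * c := fun c =>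
    Subtype.ext (mem_centralizer_singleton_iff.1 c.2)
  have h1 : g (self pp) = 1 := by
    have h2 : g (self pp) ∈ center ↥BB := by
      rw [mem_center_iff]
      intro b
      obtain ⟨c, rfl⟩ := hg b
      rw [← map_mul, ← map_mul, hs]
    rw [BB_center, mem_bot] at h2
    exact h2
  have hle : Zx pp ≤ g.ker := zpowers_le.2 h1
  have hz : Nat.card ↥(Zx pp) = 7 := by
    show Nat.card ↥(zpowers (self pp)) = 7
    rw [Nat.card_zpowers, ← Subgroup.orderOf_coe]
    exact order_pp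
  have hc : Nat.card ↥(centralizer ({pp} : Set Spor.Co1)) = 7 * 2520 := by
    rw [Nat.card_congr e.toEquiv, Nat.card_prod, Nat.card_zpowers, order_pp, card_BB]
  have hk : Nat.card ↥g.ker = 7 := by
    have h2 := g.ker.card_mul_index
    rw [index_ker, MonoidHom.range_eq_top.2 hg, card_top, card_BB, hc] at h2
    exact Nat.eq_of_mul_eq_mul_right (by norm_num) h2
  have he : Zx pp = g.ker := Subgroup.eq_of_le_of_card_ge hle (by rw [hk, hz])
  exact ⟨(QuotientGroup.quotientMulEquivOfEq he).trans (QuotientGroup.quotientKerEquivOfSurjective g hg)⟩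

theorem xx_simple : IsSimpleGroup (XX pp) := by
  obtain ⟨e⟩ := xx_pp
  exact (MulEquiv.isSimpleGroup_congr e).2 simple_BB

theorem xx_card : Nat.card (XX pp) = 2520 := by
  obtain ⟨e⟩ := xx_pp
  rw [Nat.card_congr e.toEquiv, card_BB]

theorem xx_not_solvable : ¬ Group.IsSolvable (XX pp) := by
  intro h
  have := xx_simple
  let _ : CommGroup (XX pp) := { (inferInstance : Group (XX pp)) with
    mul_comm := (IsSimpleGroup.comm_iff_isSolvable (G := XX pp)).2 h }
  have hfin : Finite (XX pp) := Nat.finite_of_card_ne_zero (by rw [xx_card]; norm_num)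
  have h3 : (Nat.card (XX pp)).Prime := IsSimpleGroup.prime_card
  rw [xx_card] at h3
  revert h3
  norm_num

theorem fr_pp : fr pp = 1 := H813.CoSevenData.fr_p0

end co1

/-! ### The model -/

section model

open Cfsg.Agent.MonsterX Cfsg.Agent.MonsterX.Model Cfsg.Agent.MonsterX.MainPack Cfsg.Agent.MonsterX.MainSimple
  Cfsg.Agent.MonsterX.MainBasic
open Cfsg.Agent.MonsterU.Assembly Cfsg.Agent.MonsterP Cfsg.Agent.MonsterU
open Cfsg.Agent.H794.MonSevenBig Cfsg.Agent.H794.MonSevenLoc Cfsg.Agent.H794.MonSeven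
open Cfsg.Agent.LThreeMB (fr XX Zx zD self toXX KChart.Cent KChart.pi KChart.chart)
open Cfsg.Agent.BpRankZero Cfsg.Agent.BpSpor
open Cfsg.Agent.H813.CoSevenMain (pp order_pp)

/-- the centralizers of the involutions -/
theorem card_inv (u : ↥InstData.M.G) (hu : orderOf u = 2) :
    ¬ 7 ^ (2 + 1) ∣ Nat.card ↥(centralizer ({u} : Set ↥InstData.M.G)) := by
  have hfin := MFive.Row.finite_model
  have huu : u * u = 1 := by rw [← pow_two, ← hu, pow_orderOf_eq_one]
  have hu1 : u ≠ 1 := by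
    rintro rfl
    rw [orderOf_one] at hu
    norm_num at hu
  rcases MFive.Row.two u huu hu1 with ⟨g, hg⟩ | ⟨g, hg⟩
  · obtain ⟨⟨e⟩, -⟩ := LThreeMB.exists_XX_equiv hg
    rw [← Nat.card_congr e.toEquiv]
    exact cz_model
  · obtain ⟨⟨e⟩, -⟩ := LThreeMB.exists_XX_equiv hg
    rw [← Nat.card_congr e.toEquiv]
    obtain ⟨hZ, ⟨f⟩, -⟩ := H546.MFiveFull.cover_t Uncond.all (NodesGrp.prel NodesU.hyp)
      (NodesNe.ne NodesU.hyp) NodesU.conj_ten Cfsg.Agent.S1704.result
    rw [Subgroup.card_eq_card_quotient_mul_card_subgroup (center _), hZ, Nat.card_congr f.toEquiv,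
      Cfsg.Agent.S1704.result.2]
    norm_num

theorem exists_nz {M : Ideal AlgInt} (hM : IsPModular 7 M) : ∃ u : ↥InstData.M.G, orderOf u = 2 ∧ NZ M u := by
  have hfin := MFive.Row.finite_model
  obtain ⟨r, hr, hfr⟩ := BpRankZero.MRow.exists_six
  obtain ⟨e⟩ := CpAutMSeven.ZeroComps.heSix r hr hfr
  let π : ↥(centralizer ({(r : ↥InstData.M.G)} : Set ↥InstData.M.G)) →* XX (r : ↥InstData.M.G) :=
    QuotientGroup.mk' (Zx (r : ↥InstData.M.G))
  refine nz_of_he hM (r := (r : ↥InstData.M.G)) (by rw [Subgroup.orderOf_coe]; exact hr)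
    (e.toMonoidHom.comp π) (e.surjective.comp (QuotientGroup.mk'_surjective _)) ?_ card_inv
  intro c
  have h1 : (e.toMonoidHom.comp π) c = 1 ↔ c ∈ Zx (r : ↥InstData.M.G) := by
    rw [← QuotientGroup.eq_one_iff]
    show e (π c) = 1 ↔ π c = 1
    exact e.map_eq_one_iff
  rw [h1]
  constructor
  · intro h
    obtain ⟨i, hi⟩ := mem_zpowers_iff.1 h
    exact mem_zpowers_iff.2 ⟨i, congrArg Subtype.val hi⟩
  · intro h
    obtain ⟨i, hi⟩ := mem_zpowers_iff.1 h
    exact mem_zpowers_iff.2 ⟨i, Subtype.ext hi⟩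

theorem exists_vz : ∃ x : ↥InstData.M.G, orderOf x = 7 ∧ H713.VZ ↥InstData.M.G x := by
  have hfin := MFive.Row.finite_model
  have h7 : Fact (Nat.Prime 7) := ⟨by norm_num⟩
  have h := KChart.chart KDone.lft MFive.Row.hc
  obtain ⟨x, hx, hxp⟩ := MFive.KPair.exists_order h (by norm_num : Nat.Prime 7) (by decide) order_pp
  have hfr : fr (KChart.pi MFive.Row.hc x) = 1 := by rw [hxp]; exact fr_pp
  have hL := loc_model hx hfr
  have hAs : IsSimpleGroup (XX (KChart.pi MFive.Row.hc x)) := by rw [hxp]; exact xx_simple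
  have hAn : ¬ Group.IsSolvable (XX (KChart.pi MFive.Row.hc x)) := by rw [hxp]; exact xx_not_solvable
  have hAc : Nat.card (XX (KChart.pi MFive.Row.hc x)) = 2520 := by rw [hxp]; exact xx_card
  have hzz : KDone.K.z * KDone.K.z = 1 := h.large.z_sq
  obtain ⟨N, hN⟩ := M5.exists_rad h (by norm_num : 7 ≠ 2) hx hfr (fun d hd hc => by
    rcases hL.only (d * KDone.K.z * d⁻¹) (by
      have hdx : Commute d (x : ↥InstData.M.G) := hd
      exact ((hdx.mul_left (show Commute KDone.K.z (x : ↥InstData.M.G) from hL.zx)).mul_left hdx.inv_left)) hc (by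
        calc d * KDone.K.z * d⁻¹ * (d * KDone.K.z * d⁻¹) = d * (KDone.K.z * KDone.K.z) * d⁻¹ := by group
          _ = 1 := by rw [hzz]; group) with h1 | h1
    · exfalso
      apply h.large.z_ne
      calc KDone.K.z = d⁻¹ * (d * KDone.K.z * d⁻¹) * d := by group
        _ = 1 := by rw [h1]; group
    · exact h1) hAs (by rw [hAc]; decide)
  have hcube : 7 ^ 3 ∣ Nat.card ↥(centralizer ({(x : ↥InstData.M.G)} : Set ↥InstData.M.G)) := by
    obtain ⟨r, hr, hr6⟩ := MRow.exists_six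
    refine CpAutMSeven.ZeroComps.cube_zero KDone.lft MFive.Row.hc hx hfr hr (by rw [hr6]; norm_num) fun y hy hfy => ?_
    have h1 : fr (KChart.pi MFive.Row.hc y) = 2 ^ 6 :=
      (CpAutMSeven.Ranks.hranks _ (MFive.orderOf_pi h (by norm_num) (by decide) hy)).resolve_left hfy
    rw [BpRankZero.Seven.card_cent, (BpRankZero.MRow.he_facts (CpAutMSeven.ZeroComps.heSix y hy h1)).2,
      Subgroup.orderOf_coe, hy]
    norm_num
  obtain ⟨S, hS, hSp, hSN, hxS, hcS⟩ := hN.exists_sylow (by norm_num)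
  have hxo : orderOf (x : ↥InstData.M.G) = 7 := by rw [Subgroup.orderOf_coe]; exact hx
  refine ⟨x, hxo, ?_⟩
  obtain ⟨M, hM⟩ := exists_modular 7
  obtain ⟨u, huo, hu⟩ := exists_nz hM
  refine vz_of_nz_order hM hu ⟨1, by rw [hxo, pow_one]⟩
    (R := S.map (centralizer ({(x : ↥InstData.M.G)} : Set ↥InstData.M.G)).subtype) (hSp.map _) (map_subtype_le _) ?_ ?_
  · rintro c hc _ ⟨r, hr, rfl⟩
    exact ⟨⟨c, hc⟩ * r * ⟨c, hc⟩⁻¹, hS.conj_mem r hr ⟨c, hc⟩, rfl⟩
  · intro i hi
    rw [huo] at hi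
    by_contra hcon
    push Not at hcon
    have hic : ∀ s ∈ S, i * (s : ↥InstData.M.G) = s * i := fun s hs => hcon _ ⟨s, hs, rfl⟩
    have hix : i * (x : ↥InstData.M.G) = x * i := hic _ hxS
    let i' : ↥(centralizer ({(x : ↥InstData.M.G)} : Set ↥InstData.M.G)) := ⟨i, mem_centralizer_singleton_iff.2 hix⟩
    have hi'o : orderOf i' = 2 := by rw [← Subgroup.orderOf_coe]; exact hi
    have hzo : orderOf (zD x) = 2 := MFive.orderOf_zD h x
    obtain ⟨g, hg⟩ := isConj_of_one hzo (fun s hss hsz => by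
      rcases hL.only (s : ↥InstData.M.G) (mem_centralizer_singleton_iff.1 s.2) (congrArg Subtype.val hsz)
        (congrArg Subtype.val hss) with h1 | h1
      · exact Or.inl (Subtype.ext h1)
      · exact Or.inr (Subtype.ext h1)) hi'o
    have hzS : S ≤ zpowers (self (x : ↥InstData.M.G)) := by
      intro s hs
      refine hN.cN s (hSN hs) ?_
      have h1 : i' * (g⁻¹ * s * g) = (g⁻¹ * s * g) * i' := by
        have h2 := hS.conj_mem s hs g⁻¹
        rw [inv_inv] at h2
        exact Subtype.ext (hic _ h2)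
      calc s * zD x = s * (g * i' * g⁻¹) := by rw [hg]
        _ = g * ((g⁻¹ * s * g) * i') * g⁻¹ := by group
        _ = g * (i' * (g⁻¹ * s * g)) * g⁻¹ := by rw [h1]
        _ = (g * i' * g⁻¹) * s := by group
        _ = zD x * s := by rw [hg]
    have hN2 : ¬ 7 ^ (1 + 1) ∣ Nat.card ↥N := by
      intro h3
      have h4 := (hcS 2 h3).trans (card_dvd_of_le hzS)
      rw [Nat.card_zpowers, ← Subgroup.orderOf_coe] at h4
      change 7 ^ 2 ∣ orderOf (x : ↥InstData.M.G) at h4
      rw [hxo] at h4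
      norm_num at h4
    obtain ⟨m, hm, hcD⟩ := hN.card_N_mul hAn
    rw [hcD] at hcube
    have hm' : m = 1 ∨ m = 2 := (Nat.dvd_prime Nat.prime_two).1 hm
    refine not_pow_dvd_mul (p := 7) (m := 1) (n := 1) (by norm_num) Nat.card_pos.ne' ?_ hN2 ?_ hcube
    · rw [hAc]
      rcases hm' with rfl | rfl <;> norm_num
    · rw [hAc]
      rcases hm' with rfl | rfl <;> norm_num

/-- **The Monster, `p = 7`.** -/
theorem m_seven {K : Type u} [Group K] (h : Spor.IsoM K) : H620.PNorm.VOrdP 7 K := by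
  obtain ⟨f⟩ := h
  obtain ⟨f'⟩ := Cfsg.Agent.MonsterP.Equiv.equiv
  have h1 : H620.PNorm.VOrdP 7 ↥InstData.M.G := exists_vz
  exact h1.mulEquiv (f.trans f').symm

end model

end Cfsg.Agent.H316.VZ.MSeven
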