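import Cfsg.Agent.H713.Van
import Cfsg.Agent.S0924
import Cfsg.Agent.S0929
import Cfsg.Agent.Blocks.BrauerHom
import Cfsg.Agent.Blocks.Knorr
import Cfsg.Agent.Blocks.Covering
import Cfsg.Agent.Blocks.CliffordCentral

/-!
# Zeros at `p`-elements from non-nilpotent class sums (helper316)

`IsPModular p M`, `u : G`.  If some central character does not vanish modulo `M` at `u` (the class sum of `u`
is not nilpotent modulo `p`), then the corresponding irreducible character vanishes at every element whose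
`p`-part commutes with no conjugate of `u` (Brauer; S0924 + S0929).

* `exists_zero_of_nn` : one character for all such elements;
* `vz_of_nn` : the same for `H713.VZ`;
* `vz_of_nn_order` : if no conjugate of `u` commutes with an element of order `n` (`n` a power of `p`), then all
  elements of order `n` are `VZ`.
* the hypothesis is provided by `H33.exists_RD`, `H33.exists_of_brauer`, `H33.exists_centralChar`, `NN`.
-/

set_option autoImplicit false

namespace Cfsg.Agent.H316.VZ

open Cfsg Cfsg.Agent.Blocks.Basic Cfsg.Agent.Blocks.Local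

universe u

/-- Some central character does not vanish modulo `M` at `u`. -/
def NZ {G : Type*} [Group G] (M : Ideal AlgInt) (u : G) : Prop :=
  ∃ χ : IrrCharacter G, ¬ MemLocalIdeal M (centralChar (χ : G → ℂ) u)

variable {G : Type*} [Group G]

/-- One irreducible character vanishes at all elements whose `p`-part commutes with no conjugate of `u`. -/
theorem exists_zero_of_nn [Finite G] {p : ℕ} [Fact p.Prime] {M : Ideal AlgInt} (hM : IsPModular p M) {u : G}
    (h : NZ M u) :
    ∃ χ : IrrCharacter G, ¬ MemLocalIdeal M (centralChar (χ : G → ℂ) u) ∧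
      ∀ y z : G, IsPPart p y z → (∀ x : G, IsConj u x → x * z ≠ z * x) → (χ : G → ℂ) y = 0 := by
  have : M.IsPrime := isPrime_of_isPModular hM
  obtain ⟨χ, hχ⟩ := h
  refine ⟨χ, hχ, fun y z hz hy => ?_⟩
  refine Cfsg.Agent.S0924.result p M hM χ y z hz fun D hD hzD => ?_
  have hself : χ ∈ blockOf M (χ : G → ℂ) := fun g => by
    rw [sub_self]; exact memLocalIdeal_zero
  obtain ⟨x, hx, hxC, -⟩ := Cfsg.Agent.S0929.result p M hM (blockOf M (χ : G → ℂ)) ⟨χ, rfl⟩ D hD u
    ⟨χ, hself, hχ⟩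
  refine hy x hx ?_
  rw [Subgroup.mem_centralizer_iff] at hxC
  exact (hxC z hzD).symm

/-- **Criterion.** `z`, the `p`-part of `y`, and its images under automorphisms commute with no conjugate of
`u`. -/
theorem vz_of_nn [Finite G] {p : ℕ} [Fact p.Prime] {M : Ideal AlgInt} (hM : IsPModular p M) {u : G}
    (h : NZ M u) {y z : G} (hz : IsPPart p y z)
    (hy : ∀ (α : MulAut G) (x : G), IsConj u x → x * α z ≠ α z * x) : H713.VZ G y := by
  obtain ⟨χ, -, hχ⟩ := exists_zero_of_nn hM h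
  refine ⟨χ, fun α => hχ (α y) (α z) ?_ (hy α)⟩
  obtain ⟨w, h1, h2, ⟨k, hk⟩, h4⟩ := hz
  refine ⟨α w, ?_, ?_, ⟨k, ?_⟩, ?_⟩
  · rw [← map_mul, h1]
  · exact h2.map α
  · rw [MulEquiv.orderOf_eq]; exact hk
  · rw [MulEquiv.orderOf_eq]; exact h4

theorem isPPart_self {p : ℕ} (hp : p.Prime) {y : G} {k : ℕ} (hy : orderOf y = p ^ k) : IsPPart p y y :=
  ⟨1, mul_one y, Commute.one_right y, ⟨k, hy⟩, by rw [orderOf_one]; exact hp.one_lt.not_ge ∘ Nat.le_of_dvd one_pos⟩

/-- If no conjugate of `u` commutes with an element of order `p ^ k`, all elements of order `p ^ k` are `VZ`. -/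
theorem vz_of_nn_order [Finite G] {p : ℕ} [hp : Fact p.Prime] {M : Ideal AlgInt} (hM : IsPModular p M) {u : G}
    (h : NZ M u) {k : ℕ} (hu : ∀ x w : G, IsConj u x → orderOf w = p ^ k → x * w ≠ w * x)
    {y : G} (hy : orderOf y = p ^ k) : H713.VZ G y :=
  vz_of_nn hM h (isPPart_self hp.out hy) fun α x hx => hu x _ hx (by rw [MulEquiv.orderOf_eq]; exact hy)

/-- In terms of the centralizer of `u` only. -/
theorem vz_of_nn_order' [Finite G] {p : ℕ} [hp : Fact p.Prime] {M : Ideal AlgInt} (hM : IsPModular p M) {u : G}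
    (h : NZ M u) {k : ℕ} (hu : ∀ w : G, u * w = w * u → orderOf w ≠ p ^ k)
    {y : G} (hy : orderOf y = p ^ k) : H713.VZ G y := by
  refine vz_of_nn_order hM h (fun x w hx hw hc => ?_) hy
  obtain ⟨c, hc'⟩ := isConj_iff.1 hx
  refine hu (c⁻¹ * w * c) ?_ ?_
  · have e : u = c⁻¹ * x * c := by rw [← hc']; group
    rw [e]
    calc c⁻¹ * x * c * (c⁻¹ * w * c) = c⁻¹ * (x * w) * c := by group
      _ = c⁻¹ * (w * x) * c := by rw [hc]
      _ = c⁻¹ * w * c * (c⁻¹ * x * c) := by group
  · have e : c⁻¹ * w * c = MulAut.conj c⁻¹ w := by rw [MulAut.conj_apply, inv_inv]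
    rw [e, MulEquiv.orderOf_eq]
    exact hw

/-- Transport of `NZ` along isomorphisms. -/
theorem NZ.of_equiv [Finite G] {Q : Type*} [Group Q] [Finite Q] {M : Ideal AlgInt} (e : G ≃* Q) {u : G} (h : NZ M (e u)) :
    NZ M u := by
  obtain ⟨χ, hχ⟩ := h
  refine ⟨⟨fun g => (χ : Q → ℂ) (e g), Cfsg.Agent.Blocks.CliffordCentral.isIrrCharacter_comp χ.2 e.toMonoidHom e.surjective⟩, ?_⟩
  intro h1
  apply hχ
  rw [← Cfsg.Agent.Blocks.Covering.centralChar_comp_equiv e (χ : Q → ℂ) u]
  exact h1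

/-- `C_G(D) ≤ H ≤ N_G(D)`, `D` a `p`-subgroup: `NZ` from a character of `H`, all elements of `u^G ∩ H` counted. -/
theorem NZ.of_induced [Finite G] {p : ℕ} [hp : Fact p.Prime] {M : Ideal AlgInt} (hM : IsPModular p M)
    {D H : Subgroup G} (hD : IsPGroup p D) (hCH : Subgroup.centralizer (D : Set G) ≤ H)
    (hHN : H ≤ Subgroup.normalizer (D : Set G)) {ξ : H → ℂ} (hξ : IsIrrCharacter H ξ) {u : G}
    (hu : ¬ MemLocalIdeal M (brauerCentralChar D H ξ u)) : NZ M u := by
  obtain ⟨χ, hχ⟩ := Cfsg.Agent.Blocks.BrauerHom.exists_irr_brauer hM hD hCH hHN hξ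
  have : M.IsPrime := isPrime_of_isPModular hM
  exact ⟨χ, fun h => hu ((memLocalIdeal_iff_of_sub (hχ u)).2 h)⟩

theorem exists_modular (p : ℕ) [Fact p.Prime] : ∃ M : Ideal AlgInt, IsPModular p M :=
  Cfsg.Agent.Blocks.Knorr.exists_isPModular p

end Cfsg.Agent.H316.VZ
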