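import Cfsg.Agent.H316.VZ.Cons
import Cfsg.Agent.H648.Loc.RowM

/-!
# S4555: `B` and `M`, `p = 2` (helper316)

`z` a `2`-central involution of `B` or `M` with the large extraspecial subgroup `Q`: `C(z)` has only one 2-block, and the
group has more than one 2-block (helper648), so some irreducible character vanishes at `z`.

* `vPow_of_large`; `m_two`, `b_two`.
-/

set_option autoImplicit false
set_option maxRecDepth 100000

namespace Cfsg.Agent.H316.VZ

open Cfsg Subgroup
open Cfsg.Agent.Co2Type.Quad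
open Cfsg.Agent.H648.Loc
open Cfsg.Agent.H652.Four
open Cfsg.Agent.MonsterX.Model Cfsg.Agent.MonsterX.MainPack
  Cfsg.Agent.MonsterX.MainSimple Cfsg.Agent.MonsterX.MainBasic Cfsg.Agent.MonsterU.Assembly

universe u

theorem nbm_of_loc {K : Type u} [Group K] [Finite K] {M : Ideal AlgInt} (hM : IsPModular 2 M) (h : Loc K) : NBM M K := by
  obtain ⟨χ, hχ⟩ := h.not_one_block hM
  exact ⟨χ, fun hc => hχ hc⟩

/-- A large extraspecial subgroup. -/
theorem vPow_of_large {K : Type u} [Group K] [Finite K] {Q : Subgroup K} {z : K} (h : Large Q z) (hL : Loc K) :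
    H620.PNorm.VPow 2 K := by
  have : Fact (Nat.Prime 2) := ⟨Nat.prime_two⟩
  obtain ⟨M, hM⟩ := exists_modular 2
  have hzo : orderOf z = 2 := orderOf_eq_prime (by rw [pow_two, h.z_sq]) h.z_ne
  refine ⟨z, ⟨1, by rw [hzo, pow_one]⟩, ?_⟩
  refine vz_of_constrained hM (nbm_of_loc hM hL) ⟨1, by rw [hzo, pow_one]⟩
    (LargeExtra.Base.isPGroup h) (R := Q) ?_ ?_ ?_
  · intro q hq
    rw [mem_centralizer_singleton_iff]
    exact h.comm_z q hq
  · intro c hc r hr
    exact h.conj_mem c (mem_centralizer_singleton_iff.1 hc) r hr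
  · intro c hc hr
    exact h.self c (mem_centralizer_singleton_iff.1 hc) fun x hx => (hr x hx).symm

/-- **The Monster, `p = 2`.** -/
theorem m_two {K : Type u} [Group K] (h : Spor.IsoM K) : H620.PNorm.VPow 2 K := by
  obtain ⟨e⟩ := h
  obtain ⟨f⟩ := Cfsg.Agent.MonsterP.Equiv.equiv
  have A := Cfsg.Agent.MonsterU.Uncond.all
  have := G_finite A.hO
  obtain ⟨x, hx, hNN⟩ := nn_of_cover (Cfsg.Agent.CTwoTab.MonsterOf.cover_t A
    (Cfsg.Agent.MonsterP.NodesGrp.prel Cfsg.Agent.MonsterU.NodesU.hyp)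
    (Cfsg.Agent.MonsterP.NodesNe.ne Cfsg.Agent.MonsterU.NodesU.hyp) Cfsg.Agent.MonsterU.NodesU.conj_ten
    Cfsg.Agent.S1704.result)
  have hl := Cfsg.Agent.MonsterU.ModelChart.large A.hG A.hR A.hL A.hO A.hT
  have hloc := Loc_of_equiv (MulEquiv.refl _) (four_dvd_of_large hl (by
    have h1 := Cfsg.Agent.H713.Spor.MOf.card_cent_z A.hG A.hR A.hL A.hO A.hT
    rw [h1]
    norm_num) (r := 13) (by norm_num) (by norm_num) hx) hNN
  exact (vPow_of_large hl hloc).mulEquiv (e.trans f).symm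

/-- **The Baby Monster, `p = 2`.** -/
theorem b_two {K : Type u} [Group K] (h : Spor.IsoB K) : H620.PNorm.VPow 2 K := by
  obtain ⟨e⟩ := h
  have A := Cfsg.Agent.BabyM.Instance.all
  have := A.finite_G
  have hl := Cfsg.Agent.KFacts.Baby.Inst.large A
  have hloc : Loc ↥Cfsg.Agent.BabyM.Inst.M.G := loc_B ⟨Cfsg.Agent.BM.KHAll.iso.symm⟩
  exact (vPow_of_large hl hloc).mulEquiv ((e.trans Cfsg.Agent.BM.KHAll.iso).symm)

end Cfsg.Agent.H316.VZ
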